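import Cfsg.Agent.OM.Cu.TbE7a_m3
import Cfsg.Agent.OM.Cu.Glue_mg_m3
import Cfsg.Agent.OM.Lie.UL0_m3
import Cfsg.Agent.Prune
set_option linter.all false

-- part: OM/On/F7/T7_mg
section
set_option linter.all false
open scoped Cfsg.Agent.FastGrp

/-- decoders of the packed data (elaboration time only) -/
private noncomputable def pk61d (b S i : Nat) : Nat := Nat.mod (Nat.shiftRight S (Nat.mul b i)) (Nat.shiftLeft (nat_lit 1) b)
private noncomputable def pk61c {α : Type} (t : Nat) (a : α) (f : Nat → α) : α := Nat.rec a (fun k _ => f k) t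
private noncomputable def pk61f {α : Type} (t : Nat) (f : Nat → α) : α := Nat.rec (f Nat.zero) (fun k _ => f (Nat.succ k)) t
private noncomputable def pk61l {α : Type} (f : Nat → α) (s e : Nat) (tl : List α) : List α :=
  pk61f e fun e => Nat.rec tl (fun k ih => List.cons (pk61f (Nat.sub e (Nat.succ k)) f) ih) (Nat.sub e s)
private noncomputable def pk61o {α : Type} (O : (n : Nat) → OfNat α n → α) (I : (n : Nat) → OfNat α n) (t : Nat) : α :=
  pk61c t (O (nat_lit 0) (I (nat_lit 0))) fun k => O (Nat.succ k) (I (Nat.succ k))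
private noncomputable def pk61y (O : (n : Nat) → OfNat Int n → Int) (I : (n : Nat) → OfNat Int n) (G : Int → Int) (t : Nat) : Int := pk61f t fun t =>
  pk61c (Nat.mod t (nat_lit 2)) (pk61o O I (Nat.div t (nat_lit 2))) fun _ => G (pk61o O I (Nat.succ (Nat.div t (nat_lit 2))))


-- part: fast checks
section
set_option autoImplicit false

namespace Cfsg.Agent.OM.Cu.Eng

private noncomputable def aw2 (T : Tb) (w V : ℕ) : ℕ :=
  fc (Nat.shiftRight w 7) fun W => Nat.shiftRight
    (Nat.rec (Nat.add (Nat.shiftLeft V 64) (Nat.mod V 18446744073709551557)) (fun s ih => fc ih fun P => fc (fd 3 W s) fun i =>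
      cond (Nat.blt i T.n) (Nat.add (Nat.shiftLeft (T.rf i (Nat.shiftRight P 64)) 64) (Nat.mod P 18446744073709551557)) P)
      (Nat.mod w 128)) 64

private theorem aw_eq (T : Tb) : T.aw = aw2 T := by
  have e : ∀ {α : Type} (x : ℕ) (f : ℕ → α), fc x f = f x := fun x f => by cases x <;> rfl
  have k : ∀ x y : ℕ, Nat.shiftRight (Nat.add (Nat.shiftLeft x 64) (Nat.mod y 18446744073709551557)) 64 = x := fun x y => by
    change (x <<< 64 + y % 18446744073709551557) >>> 64 = x
    rw [Nat.shiftLeft_eq, Nat.shiftRight_eq_div_pow]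
    omega
  funext w V
  delta Tb.aw aw2
  rw [e, e]
  induction Nat.mod w 128 with
  | zero => exact (k _ _).symm
  | succ s ih =>
    dsimp only
    rw [e, e, e, e, ih]
    cases Nat.blt _ T.n
    · rfl
    · exact (k _ _).symm

private noncomputable def key (T : Tb) (t n : ℕ) : ℕ := Nat.rec 0 (fun j ih => Nat.add (Nat.mul 16 ih) (T.co t j)) n

private theorem inj_of {T : Tb}
    (h : aL (fun t => aL (fun s => cond (Nat.beq (key T t T.n) (key T s T.n)) (Nat.beq t s) true) T.R) T.R = true) :
    ∀ t < T.R, ∀ t' < T.R, (∀ j < T.n, T.co t j = T.co t' j) → t = t' := by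
  intro t ht s hs h1
  have h2 : ∀ n, (∀ j < n, T.co t j = T.co s j) → key T t n = key T s n := fun n => by
    induction n with
    | zero => exact fun _ => rfl
    | succ n ih =>
      intro h3
      show 16 * key T t n + T.co t n = 16 * key T s n + T.co s n
      rw [ih fun j hj => h3 j (Nat.lt_succ_of_lt hj), h3 n (Nat.lt_succ_self n)]
  have h3 := aL_iff.1 (aL_iff.1 h t ht) s hs
  rw [h2 _ h1, Nat.beq_refl] at h3
  exact Nat.eq_of_beq_eq_true h3

private noncomputable def cnF (T : Tb) (h j n : ℕ) : ℕ :=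
  Nat.rec 0 (fun t ih => Bool.rec ih (Nat.succ ih) (Nat.beq (T.jj h t) j)) n

private theorem cnF_eq (T : Tb) (h j : ℕ) : ∀ n, ((Finset.range n).filter fun t => T.jj h t = j).card = cnF T h j n
  | 0 => rfl
  | n + 1 => by
    have h1 := cnF_eq T h j n
    rw [Finset.card_filter] at h1 ⊢
    rw [Finset.sum_range_succ, h1]
    show _ = @Bool.rec (fun _ => ℕ) (cnF T h j n) (Nat.succ (cnF T h j n)) (Nat.beq (T.jj h n) j)
    cases h2 : Nat.beq (T.jj h n) j
    · rw [if_neg (Nat.ne_of_beq_eq_false h2)]
      rfl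
    · rw [if_pos (Nat.eq_of_beq_eq_true h2)]

end Cfsg.Agent.OM.Cu.Eng
end

-- part: OM/On/F7/Eng
section
/-!
# OM/On/F7 : `One` from a class table and integer certificates (helper12)
-/

set_option autoImplicit false
set_option linter.unusedSectionVars false

namespace Cfsg.Agent.OM.On.F7

open Cfsg Matrix Cfsg.Agent.HZ.L Cfsg.Agent.BZ.TA Cfsg.Agent.OM.Cu Cfsg.Agent.OM.Cu.Eng Cfsg.Agent.OM.Cu.Eng.Tb Finset

/-- the number of the reflections which lead from the class `h` to the class `j` -/
def cnt (T : Tb) (h j : ℕ) : ℕ := ((range T.R).filter fun t => T.jj h t = j).card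

/-- a combination of rows -/
def cf (T : Tb) (ce : List (ℕ × ℤ)) (j : ℕ) : ℤ := (ce.map fun p => p.2 * (cnt T p.1 j : ℤ)).sum

/-- all classes are dead or killed; `z` : the class `0` is the identity -/
def CeOk (T : Tb) (z : Bool) (L : List (ℕ × List (ℕ × ℤ))) : Prop :=
  (∀ g < T.K, (T.ba g 2 = true ∨ (z = true ∧ g = 0)) ∨ g ∈ L.map Prod.fst) ∧ ∀ x ∈ L, x.1 < T.K ∧
    (∀ p ∈ x.2, p.1 < T.K ∧ T.ba p.1 2 = true) ∧ cf T x.2 x.1 ≠ 0 ∧
      ∀ j < T.K, j = x.1 ∨ (T.ba j 2 = true ∨ (z = true ∧ j = 0)) ∨ cf T x.2 j = 0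

variable {T : Tb} {c : ℕ → ℕ → ℤ} {d : Fin T.n → ℤ} {π : Equiv.Perm (Fin T.n)} {f : Mat (Fin T.n) → ℂ}

theorem row_zero (H : T.Ok c d π) (hi : ∀ t < T.R, ∀ t' < T.R, (∀ j < T.n, T.co t j = T.co t' j) → t = t')
    (hf : Hy (Rc (cm T.n c)) (pm π) 0 1 2 f) {h : ℕ} (h1 : h < T.K) (h2 : T.ba h 2 = true) :
    ∑ j ∈ range T.K, (cnt T h j : ℂ) * f (T.AA c π j) = 0 := by
  have h3 := hf.rel _ (H.co h) ((H.ord h1).2.2 2 (by norm_num) h2) 0 fun a _ => by rw [Nat.cast_one]; exact one_dvd _
  rw [Zt, Ext.rf_image H.bs H.rs (fun v => ((1 : ℕ) : ℤ) ∣ 0 ⬝ᵥ v) (fun v => by simp), finsum_mem_image fun t a t' b =>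
    Ext.rf_inj H.bs H.rs hi (mem_range.1 (mem_filter.1 (mem_coe.1 a)).1) (mem_range.1 (mem_filter.1 (mem_coe.1 b)).1),
    finsum_mem_coe_finset, filter_true_of_mem fun t _ => by simp] at h3
  rw [← h3, ← sum_fiberwise_of_maps_to (s := range T.R) (t := range T.K) (g := T.jj h)
    fun t ht => mem_range.2 (H.ent h1 (mem_range.1 ht)).1]
  refine sum_congr rfl fun j _ => ?_
  rw [cnt, ← nsmul_eq_mul, ← sum_const]
  refine sum_congr rfl fun t ht => ?_
  obtain ⟨-, g, hg, e⟩ := H.ent h1 (mem_range.1 (mem_filter.1 ht).1)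
  rw [← (mem_filter.1 ht).2]
  exact hf.conj H.rs.two (H.rs.ww ▸ hg) (H.co _) e

/-- **soundness** -/
theorem one_of (H : T.Ok c d π) (hi : ∀ t < T.R, ∀ t' < T.R, (∀ j < T.n, T.co t j = T.co t' j) → t = t') {z : Bool}
    (hz : z = true → π = 1) {L : List (ℕ × List (ℕ × ℤ))} (hL : CeOk T z L) : One (Rc (cm T.n c)) (pm π) := by
  intro f hf h0 A hA
  have h1 : ∀ j < T.K, (T.ba j 2 = true ∨ (z = true ∧ j = 0)) → f (T.AA c π j) = 0 := by
    rintro j hj (k | ⟨k, rfl⟩)
    · exact H.f_bad hf (by norm_num) hj k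
    · refine h0 _ (H.co 0) fun a _ => ?_
      rw [AA, H.bs.w0, hz k, pm_one, mul_one]
      exact one_mulVec _
  obtain ⟨g, hg, u, hu, e⟩ := H.closure hA
  rw [← hf.conj H.rs.two (H.rs.ww ▸ hu) (H.co g) e]
  refine (hL.1 g hg).elim (h1 g hg) fun k => ?_
  obtain ⟨⟨_, ce⟩, hx, rfl⟩ := List.mem_map.1 k
  obtain ⟨-, h2, h3, h4⟩ := hL.2 _ hx
  dsimp only at h2 h3 h4 hg ⊢
  have h5 : ∑ j ∈ range T.K, (cf T ce j : ℂ) * f (T.AA c π j) = 0 := by
    clear h3 h4 hx k e
    induction ce with
    | nil => simp [cf]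
    | cons p ce ih =>
      have h6 := row_zero H hi hf (h2 p List.mem_cons_self).1 (h2 p List.mem_cons_self).2
      have h7 := ih fun q hq => h2 q (List.mem_cons_of_mem _ hq)
      simp only [cf, List.map_cons, List.sum_cons, Int.cast_add, Int.cast_mul, Int.cast_natCast, add_mul, sum_add_distrib,
        mul_assoc, ← mul_sum] at h7 ⊢
      rw [h6, h7, mul_zero, add_zero]
  rw [sum_eq_single_of_mem _ (mem_range.2 hg) fun j hj e => by
    rcases (h4 j (mem_range.1 hj)).resolve_left e with h6 | h6
    · rw [h1 j (mem_range.1 hj) h6, mul_zero]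
    · rw [h6, Int.cast_zero, zero_mul]] at h5
  exact (mul_eq_zero.1 h5).resolve_left (Int.cast_ne_zero.2 h3)

end Cfsg.Agent.OM.On.F7
end

-- part: OM/Cu/ExtI
section
/-!
# OM / Cu : the scalar `h` for `D4`, `E6`, `E7` and `A7` in `E7` (helper12)
-/

set_option autoImplicit false
set_option maxRecDepth 100000

namespace Cfsg.Agent.OM.Cu.Ext

open Cfsg Matrix Cfsg.Agent.HZ.L Cfsg.Agent.BZ.TA Cfsg.Agent.BZ.TA.Cl Eng Eng.Tb

theorem injE7 : ∀ t < tE7.R, ∀ t' < tE7.R, (∀ j < tE7.n, tE7.co t j = tE7.co t' j) → t = t' :=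
  inj_of (by decide +kernel)

end Cfsg.Agent.OM.Cu.Ext
end

-- part: OM/On/F7/T7
section
/-!
# OM/On/F7 : the table of `E₇` (helper12)
-/

set_option autoImplicit false
set_option maxRecDepth 100000

namespace Cfsg.Agent.OM.On.F7

open Cfsg.Agent.BZ.TA Cfsg.Agent.OM.Cu Cfsg.Agent.OM.Cu.Eng Cfsg.Agent.OM.Cu.Eng.Tb

/-- the certificates -/
noncomputable def ce7 : List (ℕ × List (ℕ × ℤ)) :=
  (by
  refine (?fq9001 : (fun (On : (n : Nat) → OfNat Nat n → Nat) (In : (n : Nat) → OfNat Nat n) (Oz : (n : Nat) → OfNat Int n → Int) (Iz : (n : Nat) → OfNat Int n) (Gz : Int → Int) => ((pk61l (fun i1 => (_root_.Prod.mk (pk61o On In (pk61d (nat_lit 6) 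
    (nat_lit 0x2ea638607de34b202) i1)) ((fun g1 : Nat → Nat => pk61l (fun i2 => (_root_.Prod.mk (pk61o On In (pk61d (nat_lit 6) 
    (nat_lit 0x38d32c18593144074cb06164c5101d32c18593144d74cb06164c5101d32c18593144d32c18593144074cb06164c5101d32c18593144d32c18593144041) i2)) (pk61y Oz Iz Gz (pk61d (nat_lit 15) 
    (nat_lit 0x3801afe7800f000510227e59fc45000d7005212004ff89ff035e17003c002df00900038005804000800090017802f003000140011c8087ff7ffc74fb300858065fc138007e05fe01002c00024005e00bc00c000514fe980130006302b7e71fc5700107006a1800fff9fff0c5e6000c00095f021000a806003ff07fe0314180030002fe01805ffc000800031817ffafff3000083c03e8002) i2)))) (g1 i1) (g1 (Nat.succ i1)) List.nil) fun j => (pk61d (nat_lit 7) 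
    (nat_lit 0xa31df366ab121b2428080) j)))) (nat_lit 0) (nat_lit 11) List.nil) : List (ℕ × List (ℕ × ℤ))))
    = ?xq9001 → (List (ℕ × List (ℕ × ℤ)))) ?hq9001; (case hq9001 => (set_option maxRecDepth 1000000 in conv => lhs; reduce)); intro _; exact ?xq9001 (@OfNat.ofNat Nat) instOfNatNat (@OfNat.ofNat Int) (@instOfNat) (@Neg.neg Int Int.instNegInt) : List (ℕ × List (ℕ × ℤ)))

theorem okE7 : tE7.Ok (cT 2 7) ![1, 1, 1, 1, 1, 1, 1] 1 :=
  ⟨bs_of basE7, boxRs _ _ carE7, by decide +kernel, fun _ _ => rfl,
    fun i hi => rows_ok rowsE7a i (Nat.zero_le _) (by rw [lenE7a]; exact hi), aL_iff.1 clsE7⟩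

theorem ce7_ok : CeOk tE7 true ce7 := by
  have h : cnt tE7 = fun h j => cnF tE7 h j tE7.R := funext fun h => funext fun j => cnF_eq tE7 h j _
  delta CeOk cf
  rewrite [h]
  decide +kernel

/-- **[T7]** -/
theorem boxT7 : BoxT7 := fun π h => by
  obtain rfl := autE7 π h
  exact one_of okE7 Ext.injE7 (fun _ => rfl) ce7_ok

end Cfsg.Agent.OM.On.F7
end

-- part: OM/On/F7/TAe
section
/-!
# OM/On/F7 : the table engine gives `One` (helper34)
-/

set_option autoImplicit false
set_option maxHeartbeats 200000

namespace Cfsg.Agent.OM.On.F7.TA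

open Cfsg Matrix Cfsg.Agent.HZ.L Cfsg.Agent.BZ.TA Cfsg.Agent.BZ.TA.Cl Cfsg.Agent.OM.Cu Cfsg.Agent.OM.Cu.Eng

/-- the kills `(h, w)` in their order; `D` : the dead classes; at the end every class is bad or dead -/
noncomputable def rz (T : Tb) (L : List (ℕ × ℕ)) : ℕ → Bool :=
  List.rec (motive := fun _ => ℕ → Bool) (fun D => aL (fun i => or (T.ba i 2) (Nat.beq (fd 1 D i) 1)) T.K)
    (fun x _ ih D => and (T.kil 1 0 2 D x.1 0 x.2) (fc (Nat.lor D (Nat.shiftLeft 1 x.2)) ih)) L

variable {T : Tb} {c : ℕ → ℕ → ℤ} {d : Fin T.n → ℤ} {π : Equiv.Perm (Fin T.n)}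

theorem rz_ok (H : T.Ok c d π) {f : Mat (Fin T.n) → ℂ} (hf : Hy (Rc (cm T.n c)) (pm π) 0 1 2 f) {L : List (ℕ × ℕ)} {D : ℕ}
    (hD : ∀ j, fd 1 D j = 1 → f (T.AA c π j) = 0) (k : rz T L D = true) : ∀ i < T.K, f (T.AA c π i) = 0 := by
  induction L generalizing D with
  | nil =>
    intro i hi
    have a := aL_iff.1 k i hi
    simp only [Bool.or_eq_true, Nat.beq_eq] at a
    exact a.elim (H.f_bad hf (by norm_num) hi) (hD i)
  | cons x L ih =>
    have a := Bool.and_eq_true_iff.1 k
    rw [fc_eq] at a
    exact ih (fun j hj => (bit_or hj).elim (hD j) fun e =>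
      e ▸ H.kil (r := 0) hf (by norm_num) (one_dvd _) (by simp) hD a.1) a.2

/-- **soundness** : `D = 0`, or `D = 1` for the trivial automorphism -/
theorem one_of {L : List (ℕ × ℕ)} {D : ℕ} (h1 : T.bas c = true) (hπ : ∀ j, fd 4 T.ip (π j) = j)
    (hc : ∀ i j : Fin T.n, c (π i) (π j) = c i j) (hC : Car (cm T.n c) d) (h2 : ∀ i < T.K, T.RowOk i) (h3 : aL T.cls T.K = true)
    (hD : D = 0 ∨ D = 1 ∧ π = 1) (h4 : rz T L D = true) : One (Rc (cm T.n c)) (pm π) := by
  have H : T.Ok c d π := ⟨Tb.bs_of h1, boxRs _ _ hC, hπ, hc, h2, aL_iff.1 h3⟩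
  intro f hf h0 A hA
  obtain ⟨i, hi, g, hg, k⟩ := H.closure hA
  rw [← hf.conj H.rs.two (H.rs.ww ▸ hg) (H.co i) k]
  refine rz_ok H hf (fun j hj => ?_) h4 i hi
  rcases hD with rfl | ⟨rfl, e⟩
  · simp [fd] at hj
  · have b : j = 0 := (bit_or (D := 0) (w := 0) hj).resolve_left (by simp [fd])
    refine h0 _ (H.co j) fun a _ => ?_
    have e1 : pm π = 1 := by
      ext x y
      simp [pm, e, one_apply]
    have e2 : T.wd c 0 = 1 := rfl
    rw [b, Tb.AA, H.bs.w0, e1, e2, mul_one, one_mulVec]

end Cfsg.Agent.OM.On.F7.TA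
end

-- part: OM/On/F7/TAt
section
/-!
# OM/On/F7 : the class tables of the cosets of `A₇` and `A₅ A₂` (helper34, generated)
-/

set_option autoImplicit false
set_option maxRecDepth 100000
set_option maxHeartbeats 200000

namespace Cfsg.Agent.OM.On.F7.TA

open Cfsg.Agent.BZ.TA Cfsg.Agent.BZ.TA.Cl Cfsg.Agent.OM.Cu.Eng

/-- the tables -/
def tA0 : Tb where
  n := 7
  K := 22
  R := 28
  nb := 0x775764753742731720771
  ip := 0x6543210
  rt := 0x433333401111111043333420111111002433334001111110433342301111100024333420011111003243334000111110433423301111000024334230011110003243342000111100332433400001111043423330111000002434233001110000324342300011100033243420000111003332434000001110442333301100000024423330011000003244233000110000332442300001100033324420000011003333244000000110523333301000000025233330010000003252333000100000332523300001000033325230000010003333252000000100333332500000001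
  nx := 0x191b1b1b1b1b1a00171a1a1a1a181b001b1619191919170014181818151a18001a1317171714190016191216161613001015151118151500180f14141017140013170e13130f16001212160d12120e000b110c1511111100150a100b141010000f14090f0a130f000e0e13080e0912000d0d0d12070d08000506110c0c0c0c00110405100b0b0b000a1003040f0a0a0009090f02030e09000808080e01020d00070707070d000100000c0606060606000c000b0505050500040b000a0404040003030a00090303000202020900080200010101010800070000000000000700
  cw := 0x53970700000000000000000000000000000000000000000000000000000000000000000000000000000000000000000000000a970600000000000000000000000000000000000000000000000000000000000000000000000000000000000000000000000a770600000000000000000000000000000000000000000000000000000000000000000000000000000000000000000000000a730600000000000000000000000000000000000000000000000000000000000000000000000000000000000000000000000a728600000000000000000000000000000000000000000000000000000000000000000000000000000000000000000000000173050000000000000000000000000000000000000000000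00000000000000000000000000000000000000000000000000001530500000000000000000000000000000000000000000000000000000000000000000000000000000000000000000000000152850000000000000000000000000000000000000000000000000000000000000000000000000000000000000000000000014e850000000000000000000000000000000000000000000000000000000000000000000000000000000000000000000000014e0500000000000000000000000000000000000000000000000000000000000000000000000000000000000000000000000053040000000000000000000000000000000000000000000000000000000000000000000000000000000000000000000000002e840000000000000000000000000000000000000000000000000000000000000000000000000000000000000000000000002e040000000000000000000000000000000000000000000000000000000000000000000000000000000000000000000000002a0400000000000000000000000000000000000000000000000000000000000000000000000000000000000000000000000029840000000000000000000000000000000000000000000000000000000000000000000000000000000000000000000000000a03000000000000000000000000000000000000000000000000000000000000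000000000000000000000000000000000000058300000000000000000000000000000000000000000000000000000000000000000000000000000000000000000000000005030000000000000000000000000000000000000000000000000000000000000000000000000000000000000000000000000102000000000000000000000000000000000000000000000000000000000000000000000000000000000000000000000000008200000000000000000000000000000000000000000000000000000000000000000000000000000000000000000000000000010000000000000000000000000000000000000000000000000000000000000000000000000000000000000000000000000000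
  od := 0x8040f060706040c0a06020603040502060402030201
  bd := 0x4040004000404040404040400040004040404000400
  jt := 0x11121213131314141414131313131312121212121211111111111111151515151515151515150e1515150e0f0f15150f0f0e0e0e150e0e0e1515151515151515150e15151510100d15151010100d0d150e0e0e0e15151515150d15150f0f151510101015150f0f0f0f0c150d0d0d0d0d15150c150d0d150e0e0e150e0e0e0e150d0d0d0d0d150c0c0c0c0c0c13131313131213131212131312121213130a12120a09130a0a120a0a12121212121212121212141212120a141412120b0b081408120a0a0a131311131111131111111411111109140811110a0a14080811090909121211121111121111081211110a0a1311110a0a0a13071108080808111111111107111108081111090909111108080808121107070707070f0f0f0f0f0f0f0f0f0f0f0f0f0f0f0f0f0f0f0f0f060f060f060f060f0f0d0f0d0d100d0d0d100e0d0d0d100e0e0d0d0610050e050d06060e0e0e0e0e0c0e0e0c0c0e0e0c0c0c0e0e050c0c05100e05050c05050d0d0d0d0d0c0d0d0c0c0e0d0c0c050e0e0c0c06060f0e040c0505050c0c0c0c0c0c0c0c0c040c0c0c05050d0c0c0505050d0d0c040404040a0a0a0a0a080a0a08080a0a0808080a0a080808080b0a03080308030808080808080908080709090807070a09090707030a0a09020703030707070707070707070708070707020808070703030808080702020205050505050505050505060505050406060505040406060605010401040404040404050404040505040404050505040401050505050401010202020302020303020203030302020303030302020303030303020001010101010101010101010101010101010101010101010101010101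

/-- the conjugating words -/
noncomputable def rA0 : List (List ℕ) :=
  (by
  refine (?fq9002 : (fun (On : (n : Nat) → OfNat Nat n → Nat) (In : (n : Nat) → OfNat Nat n) => ((pk61l (fun i1 => (pk61l (fun i2 => (pk61o On In (pk61f (pk61d (nat_lit 8) 
    (nat_lit 0x85765d442e1909b8ab98754318c5b7a5732a003a933e0057aa007400d2d1ce0c2e1909c7d02f4b0017c71f7a6600006b8b4a2e8179436a2a85765d442e1909b8ab985e5c0075a668895a2e3a9188006d90196c1885765d442e1900936e3b12432d001f207359003a93831957a2007109745b422b170809aa9772401518b3a46f252a003a933e005751006500bbb203442ec600ae0a1e19cacb00321dc5cf14317dc9128c8d739c8385765d14430700000a2f240016441f46730900368b8307819b439259745b420c170809b0c22f3500172b1f613400004e603e174d5115652a745b422b17000868370f402900001f68562a173a803e005351086518573f2714070800936e3b121518001f20252a003a383e004951006509b801989443c800000593a1c7cd043ca0b6cc3b50b5bf4f96be95a3a2745b0340b40084420a0db3bd75001b4cbc2606646718407c5156633eada9031407bc009d0a1e00c1c300321db3c4143138c012485125633e573f2714000700000a2f240016141f4625090036383e07495115652a3a22110607001968370f121509001f20252a0033383e00495108651893013b9400b100000593a1b0ba043ca08fb93b508e9f4f399e3852513a220300060019110a0d001309001b2008260631381812485125633e1f0e0406001743000a0f12082c001c2025180033383e07495115652a2f0100690017430005687f082c04107e8f180f218e9f20399e3852510a020400144073000a0f072858001b2015410631382a12485125633e000100113b6f950005062354820410123d700f21255520393e385251000a2f5e86a7af021a457799ac0b305f87a81c47789a33628a497b65)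 i2) fun j => (fun g : Nat → Nat => Nat.mod (Nat.shiftRight 
    (nat_lit 0x6888d1b1ad6344130d111a3635ac68920d111a363446b1920438d11634758d1201a22346c6b58d1101344468d8d6b19201344468d8d6b191b8d11634758d1288d11634758d1138d11634758d10344468d8d6b191344468d8d6b19018d11634758d1108d11634758d0f021a22346c6b0f9a22346c6b0e8868c688b18e4344468d8d0e1a22346c6b0d1344468d9a8e1344468d9a8d1344468d8d0e1344468d8d0d110d1d63440d110d18d58f0e110d18d58f0d058d11ac688c0468d8d6b18c0344468d9a8d0344468d9a8c0344468d8d0d0344468d8d0c0221a3ac688c0221a31ab18d0221a31ab18c0108b51d9a8c4434758d0b443463440b2116a3b30b1634758d0a11a22c688a08868c688a0422d4770a0422d4760a02c688d609023563d60901a31ab18901351d9a8a01351d9a89013444688a01344468890110d1970a0110d197090110d18d09871d9a8984659a89845a9709845a8e8958d6b188468d8d08351d9a89351d9a88344468893444688822259a88221a3a88221a3708221a3289221a3288171d9a89111d9a88108d9a88108b9708108b5a88108b5708108b5288108b51880d6344070763d607071d9a8706a3b30704459a87044346870443460804434607031d9a88021c7607021397070211d60702119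7070211728702116a0701ac68860163d60601634406011d9a86011ab186011a2306d47706d47606d18d06d11a86d1170688d6068897068868878868865c7607559a87539706447606439706427286423606423286422e06422d06358d052cd6052c688525d605259a8523b3052344051c76051a97051a8e851a22851397061397051351861351851116051112850c76060ad6060a97060a7285087285084e0508460508458506b184059a84058d04047704047604046884039704035284035185035184034404027285027284022d04022204015605015285014e04011184010e04010984010884d603ba83b303b183970396038e838d037703728371836a0368834e044e03440331842e042983218321031a82170216021302128211820e820e020d020983098208820583050305020402030102810201018101020101828101) (Nat.mul (nat_lit 8) (g j))) (Nat.shiftLeft (nat_lit 1) (Nat.mul (nat_lit 8) (Nat.sub (g (Nat.succ j)) (g j))))) (pk61d (nat_lit 10) 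
    (nat_lit 0xc5f0fc1effbdeefb9edfb62d1b2ac3af2b5abaa7a869ba568fa26839f6779c66b9965f96653936479063b8d62f8a62487e1a8561082e06805fc7ddf27b5e878dde765d473dcb71dc36fdbb6ddb36bdab69da367d9b65d9363d8b61d835fd7b5dd735bd6b59d6357d5b55d5353d4b51d434fd3b4dd334bd2b49d2347d1c4651644d104350a41d04404fe3ecf83d4f23bcec3a4e638ce0374da35cd4344ce32cc8314c22fcbc2e4b62ccb02b4aa29ca42849e26c982549223c8c2248620c801f47a1dc741c46e1ac681946217c5c16457154531444f1344b12447114431043f0f43b0e4370d4330c42f0b42b0a427094230841f0741b06417054130440f0340b02407014030080100000))))) (Nat.mul (nat_lit 28) i1) (Nat.mul (nat_lit 28) (Nat.succ i1)) List.nil)) (nat_lit 0) (nat_lit 22) List.nil) : List (List ℕ)))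
    = ?xq9002 → (List (List ℕ))) ?hq9002; (case hq9002 => (set_option maxRecDepth 1000000 in conv => lhs; reduce)); intro _; exact ?xq9002 (@OfNat.ofNat Nat) instOfNatNat : List (List ℕ))

/-- the kills -/
def kA0 : List (ℕ × ℕ) := [(1, 2), (4, 7), (5, 9), (12, 17), (13, 19)]

theorem basA0 : tA0.bas cA = true := by decide +kernel

private noncomputable def _root_.Cfsg.Agent.KOeab975c.k2 : (by first | exact type_of% @Cfsg.Agent.OM.Cu.Eng.fd | exact Unit : Sort _) := by first | (refine @Subtype.val _ (fun g => @Cfsg.Agent.OM.Cu.Eng.fd = @g) (@Subtype.mk _ _ (@(fun x0 x1 x2 => @Nat.mod (@Nat.shiftRight @x1 (@Nat.mul @x0 @x2)) (@Nat.pow (nat_lit 2) @x0))) ?_); rfl') | exact @Cfsg.Agent.OM.Cu.Eng.fd | exact ()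
private theorem _root_.Cfsg.Agent.KOeab975c.e2 : (by first | exact @Cfsg.Agent.OM.Cu.Eng.fd = @_root_.Cfsg.Agent.KOeab975c.k2 | exact True : Prop) := by first | (delta _root_.Cfsg.Agent.KOeab975c.k2; exact @Subtype.property _ (fun g => @Cfsg.Agent.OM.Cu.Eng.fd = @g) _) | rfl | trivial
private noncomputable def _root_.Cfsg.Agent.KOeab975c.k3 : (by first | exact type_of% @Cfsg.Agent.OM.Cu.Eng.Tb.co | exact Unit : Sort _) := by first | (refine @Subtype.val _ (fun g => @Cfsg.Agent.OM.Cu.Eng.Tb.co = @g) (@Subtype.mk _ _ (@(fun x0 x1 x2 => @Cfsg.Agent.KOeab975c.k2 (nat_lit 4) (@Cfsg.Agent.OM.Cu.Eng.Tb.rt @x0) (@Nat.add (@Nat.mul (nat_lit 16) @x1) @x2))) ?_); rewrite [← Cfsg.Agent.KOeab975c.e2]; (try delta Cfsg.Agent.OM.Cu.Eng.Tb.co); (try generalize @Cfsg.Agent.OM.Cu.Eng.fd = g0); rfl') | exact @Cfsg.Agent.OM.Cu.Eng.Tb.co | exact ()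
private theorem _root_.Cfsg.Agent.KOeab975c.e3 : (by first | exact @Cfsg.Agent.OM.Cu.Eng.Tb.co = @_root_.Cfsg.Agent.KOeab975c.k3 | exact True : Prop) := by first | (delta _root_.Cfsg.Agent.KOeab975c.k3; exact @Subtype.property _ (fun g => @Cfsg.Agent.OM.Cu.Eng.Tb.co = @g) _) | rfl | trivial
private noncomputable def _root_.Cfsg.Agent.KOeab975c.k23 : (by first | exact type_of% @Cfsg.Agent.OM.Cu.Eng.Tb.ro | exact Unit : Sort _) := by first | (refine @Subtype.val _ (fun g => @Cfsg.Agent.OM.Cu.Eng.Tb.ro = @g) (@Subtype.mk _ _ (@(fun x0 x1 x2 => @Cfsg.Agent.KOeab975c.k2 (nat_lit 4) (@Cfsg.Agent.OM.Cu.Eng.Tb.rt @x0) (@Nat.add (@Nat.add (@Nat.mul (nat_lit 16) @x1) (nat_lit 8)) @x2))) ?_); rewrite [← Cfsg.Agent.KOeab975c.e2]; (try delta Cfsg.Agent.OM.Cu.Eng.Tb.ro); (try generalize @Cfsg.Agent.OM.Cu.Eng.fd = g0); rfl') | exact @Cfsg.Agent.OM.Cu.Eng.Tb.ro | exact ()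
private theorem _root_.Cfsg.Agent.KOeab975c.e23 : (by first | exact @Cfsg.Agent.OM.Cu.Eng.Tb.ro = @_root_.Cfsg.Agent.KOeab975c.k23 | exact True : Prop) := by first | (delta _root_.Cfsg.Agent.KOeab975c.k23; exact @Subtype.property _ (fun g => @Cfsg.Agent.OM.Cu.Eng.Tb.ro = @g) _) | rfl | trivial
private noncomputable def _root_.Cfsg.Agent.KOeab975c.k41 : (by first | exact type_of% @Cfsg.Agent.OM.Cu.Eng.Tb.jj | exact Unit : Sort _) := by first | (refine @Subtype.val _ (fun g => @Cfsg.Agent.OM.Cu.Eng.Tb.jj = @g) (@Subtype.mk _ _ (@(fun x0 x1 x2 => @Cfsg.Agent.KOeab975c.k2 (nat_lit 8) (@Cfsg.Agent.OM.Cu.Eng.Tb.jt @x0) (@Nat.add (@Nat.mul (@Cfsg.Agent.OM.Cu.Eng.Tb.R @x0) @x1) @x2))) ?_); rewrite [← Cfsg.Agent.KOeab975c.e2]; (try delta Cfsg.Agent.OM.Cu.Eng.Tb.jj); (try generalize @Cfsg.Agent.OM.Cu.Eng.fd = g0); rfl') | exact @Cfsg.Agent.OM.Cu.Eng.Tb.jj | exact ()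
private theorem _root_.Cfsg.Agent.KOeab975c.e41 : (by first | exact @Cfsg.Agent.OM.Cu.Eng.Tb.jj = @_root_.Cfsg.Agent.KOeab975c.k41 | exact True : Prop) := by first | (delta _root_.Cfsg.Agent.KOeab975c.k41; exact @Subtype.property _ (fun g => @Cfsg.Agent.OM.Cu.Eng.Tb.jj = @g) _) | rfl | trivial
private noncomputable def _root_.Cfsg.Agent.KOeab975c.k43 : (by first | exact type_of% @Cfsg.Agent.OM.Cu.Eng.fc | exact Unit : Sort _) := by first | (refine @Subtype.val _ (fun g => @Cfsg.Agent.OM.Cu.Eng.fc = @g) (@Subtype.mk _ _ (@(fun x0 x1 x2 => @Nat.rec.{1} @(fun x3 => @x0) (@x2 (nat_lit 0)) @(fun x3 x4 => @x2 (@Nat.succ @x3)) @x1)) ?_); rfl') | exact @Cfsg.Agent.OM.Cu.Eng.fc | exact ()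
private theorem _root_.Cfsg.Agent.KOeab975c.e43 : (by first | exact @Cfsg.Agent.OM.Cu.Eng.fc = @_root_.Cfsg.Agent.KOeab975c.k43 | exact True : Prop) := by first | (delta _root_.Cfsg.Agent.KOeab975c.k43; exact @Subtype.property _ (fun g => @Cfsg.Agent.OM.Cu.Eng.fc = @g) _) | rfl | trivial
private noncomputable def _root_.Cfsg.Agent.KOeab975c.k49 : type_of% @Bool.and := @(fun x0 x1 => @Bool.rec.{1} @(fun x2 => @Bool) @Bool.false @x1 @x0)
private theorem _root_.Cfsg.Agent.KOeab975c.e49 : @Bool.and = @_root_.Cfsg.Agent.KOeab975c.k49 := by delta _root_.Cfsg.Agent.KOeab975c.k49; rfl'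
private noncomputable def _root_.Cfsg.Agent.KOeab975c.k50 : (by first | exact type_of% @Cfsg.Agent.OM.Cu.Eng.Tb.v0 | exact Unit : Sort _) := by first | (refine @Subtype.val _ (fun g => @Cfsg.Agent.OM.Cu.Eng.Tb.v0 = @g) (@Subtype.mk _ _ (@(fun x0 => @Nat.rec.{1} @(fun x1 => ℕ) (nat_lit 0) @(fun x1 x2 => @Nat.add (@Nat.shiftLeft (@Nat.mod (@Nat.pow (nat_lit 65536) @x1) @Cfsg.Agent.OM.Cu.Eng.NN) (@Nat.mul (nat_lit 136) @x1)) @x2) (@Cfsg.Agent.OM.Cu.Eng.Tb.n @x0))) ?_); (try delta Cfsg.Agent.OM.Cu.Eng.Tb.v0 Cfsg.Agent.OM.Cu.Eng.pk Cfsg.Agent.OM.Cu.Eng.sL); (try generalize @Cfsg.Agent.OM.Cu.Eng.NN = g0); rfl') | exact @Cfsg.Agent.OM.Cu.Eng.Tb.v0 | exact ()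
private theorem _root_.Cfsg.Agent.KOeab975c.e50 : (by first | exact @Cfsg.Agent.OM.Cu.Eng.Tb.v0 = @_root_.Cfsg.Agent.KOeab975c.k50 | exact True : Prop) := by first | (delta _root_.Cfsg.Agent.KOeab975c.k50; exact @Subtype.property _ (fun g => @Cfsg.Agent.OM.Cu.Eng.Tb.v0 = @g) _) | rfl | trivial
private noncomputable def _root_.Cfsg.Agent.KOeab975c.k51 : (by first | exact type_of% @Cfsg.Agent.OM.Cu.Eng.Tb.rf | exact Unit : Sort _) := by first | (refine @Subtype.val _ (fun g => @Cfsg.Agent.OM.Cu.Eng.Tb.rf = @g) (@Subtype.mk _ _ (@(fun x0 x1 x2 => @Nat.add (@Nat.sub @x2 (@Nat.shiftLeft (@Nat.mod (@Nat.shiftRight @x2 (@Nat.mul (nat_lit 136) @x1)) @Cfsg.Agent.OM.Cu.Eng.BB) (@Nat.mul (nat_lit 136) @x1))) (@Nat.shiftLeft (@Nat.mod (@Nat.add (@Nat.add (@Nat.add (@Nat.mod (@Nat.shiftRight @x2 (@Nat.mul (nat_lit 136) (@Cfsg.Agent.KOeab975c.k2 (nat_lit 4) (@Cfsg.Agent.OM.Cu.Eng.Tb.nb @x0) (@Nat.mul (nat_lit 3) @x1)))) @Cfsg.Agent.OM.Cu.Eng.BB) (@Nat.mod (@Nat.shiftRight @x2 (@Nat.mul (nat_lit 136) (@Cfsg.Agent.KOeab975c.k2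 (nat_lit 4) (@Cfsg.Agent.OM.Cu.Eng.Tb.nb @x0) (@Nat.add (@Nat.mul (nat_lit 3) @x1) (nat_lit 1))))) @Cfsg.Agent.OM.Cu.Eng.BB)) (@Nat.mod (@Nat.shiftRight @x2 (@Nat.mul (nat_lit 136) (@Cfsg.Agent.KOeab975c.k2 (nat_lit 4) (@Cfsg.Agent.OM.Cu.Eng.Tb.nb @x0) (@Nat.add (@Nat.mul (nat_lit 3) @x1) (nat_lit 2))))) @Cfsg.Agent.OM.Cu.Eng.BB)) (@Nat.mul @Cfsg.Agent.OM.Cu.Eng.NM (@Nat.mod (@Nat.shiftRight @x2 (@Nat.mul (nat_lit 136) @x1)) @Cfsg.Agent.OM.Cu.Eng.BB))) @Cfsg.Agent.OM.Cu.Eng.NN) (@Nat.mul (nat_lit 136) @x1)))) ?_); rewrite [← Cfsg.Agent.KOeab975c.e2]; (try delta Cfsg.Agent.OM.Cu.Eng.Tb.rf Cfsg.Agent.OM.Cu.Eng.dg); (try generalize @Cfsg.Agent.OM.Cu.Eng.BB = g0); (try generalize @Cfsg.Agent.OM.Cu.Eng.fd = g1); (try generalize @Cfsg.Agent.OM.Cu.Eng.NM = g2); (try generalize @Cfsg.Agent.OM.Cu.Eng.NN = g3); rfl') | exact @Cfsg.Agent.OM.Cu.Eng.Tb.rf | exact ()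
private theorem _root_.Cfsg.Agent.KOeab975c.e51 : (by first | exact @Cfsg.Agent.OM.Cu.Eng.Tb.rf = @_root_.Cfsg.Agent.KOeab975c.k51 | exact True : Prop) := by first | (delta _root_.Cfsg.Agent.KOeab975c.k51; exact @Subtype.property _ (fun g => @Cfsg.Agent.OM.Cu.Eng.Tb.rf = @g) _) | rfl | trivial
private noncomputable def _root_.Cfsg.Agent.KOeab975c.k52 : (by first | exact type_of% @Cfsg.Agent.OM.Cu.Eng.aw2 | exact Unit : Sort _) := by first | (refine @Subtype.val _ (fun g => @Cfsg.Agent.OM.Cu.Eng.aw2 = @g) (@Subtype.mk _ _ (@(fun x0 x1 x2 => @Cfsg.Agent.KOeab975c.k43 _ (@Nat.shiftRight @x1 (nat_lit 7)) @(fun x3 => @Nat.shiftRight (@Nat.rec.{1} @(fun x4 => ℕ) (@Nat.add (@Nat.shiftLeft @x2 (nat_lit 64)) (@Nat.mod @x2 (nat_lit 18446744073709551557))) @(fun x4 x5 => @Cfsg.Agent.KOeab975c.k43 _ @x5 @(fun x6 => @Cfsg.Agent.KOeab975c.k43 _ (@Cfsg.Agent.KOeab975c.k2 (nat_lit 3) @x3 @x4) @(fun x7 => @Bool.rec.{1} @(fun x8 => ℕ) @x6 (@Nat.add (@Nat.shiftLeft (@Cfsg.Agent.KOeab975c.k51 @x0 @x7 (@Nat.shiftRight @x6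 (nat_lit 64))) (nat_lit 64)) (@Nat.mod @x6 (nat_lit 18446744073709551557))) (@Nat.ble (@Nat.succ @x7) (@Cfsg.Agent.OM.Cu.Eng.Tb.n @x0))))) (@Nat.mod @x1 (nat_lit 128))) (nat_lit 64)))) ?_); rewrite [← Cfsg.Agent.KOeab975c.e51, ← Cfsg.Agent.KOeab975c.e2, ← Cfsg.Agent.KOeab975c.e43]; (try delta Cfsg.Agent.OM.Cu.Eng.aw2); (try generalize @Cfsg.Agent.OM.Cu.Eng.fc = g0); (try generalize @Cfsg.Agent.OM.Cu.Eng.fd = g1); (try generalize @Cfsg.Agent.OM.Cu.Eng.Tb.rf = g2); rfl') | exact @Cfsg.Agent.OM.Cu.Eng.aw2 | exact ()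
private theorem _root_.Cfsg.Agent.KOeab975c.e52 : (by first | exact @Cfsg.Agent.OM.Cu.Eng.aw2 = @_root_.Cfsg.Agent.KOeab975c.k52 | exact True : Prop) := by first | (delta _root_.Cfsg.Agent.KOeab975c.k52; exact @Subtype.property _ (fun g => @Cfsg.Agent.OM.Cu.Eng.aw2 = @g) _) | rfl | trivial
private noncomputable def _root_.Cfsg.Agent.KOeab975c.k53 : (by first | exact type_of% @Cfsg.Agent.OM.Cu.Eng.Tb.aB | exact Unit : Sort _) := by first | (refine @Subtype.val _ (fun g => @Cfsg.Agent.OM.Cu.Eng.Tb.aB = @g) (@Subtype.mk _ _ (@(fun x0 x1 => @Nat.rec.{1} @(fun x2 => ℕ) (nat_lit 0) @(fun x2 x3 => @Nat.add (@Nat.shiftLeft (@Nat.mod (@Nat.mod (@Nat.shiftRight @x1 (@Nat.mul (nat_lit 136) (@Cfsg.Agent.KOeab975c.k2 (nat_lit 4) (@Cfsg.Agent.OM.Cu.Eng.Tb.ip @x0) @x2))) @Cfsg.Agent.OM.Cu.Eng.BB) @Cfsg.Agent.OM.Cu.Eng.NN) (@Nat.mul (nat_lit 136) @x2)) @x3) (@Cfsg.Agent.OM.Cu.Eng.Tb.n @x0))) ?_); rewrite [← Cfsg.Agent.KOeab975c.e2]; (try delta Cfsg.Agent.OM.Cu.Eng.Tb.aB Cfsg.Agent.OM.Cu.Eng.pk Cfsg.Agent.OM.Cu.Eng.sL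 Cfsg.Agent.OM.Cu.Eng.dg); (try generalize @Cfsg.Agent.OM.Cu.Eng.fd = g0); (try generalize @Cfsg.Agent.OM.Cu.Eng.BB = g1); (try generalize @Cfsg.Agent.OM.Cu.Eng.NN = g2); rfl') | exact @Cfsg.Agent.OM.Cu.Eng.Tb.aB | exact ()
private theorem _root_.Cfsg.Agent.KOeab975c.e53 : (by first | exact @Cfsg.Agent.OM.Cu.Eng.Tb.aB = @_root_.Cfsg.Agent.KOeab975c.k53 | exact True : Prop) := by first | (delta _root_.Cfsg.Agent.KOeab975c.k53; exact @Subtype.property _ (fun g => @Cfsg.Agent.OM.Cu.Eng.Tb.aB = @g) _) | rfl | trivial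
private noncomputable def _root_.Cfsg.Agent.KOeab975c.k54 : (by first | exact type_of% @Cfsg.Agent.OM.Cu.Eng.Tb.eqv | exact Unit : Sort _) := by first | (refine @Subtype.val _ (fun g => @Cfsg.Agent.OM.Cu.Eng.Tb.eqv = @g) (@Subtype.mk _ _ (@(fun x0 x1 x2 => @Cfsg.Agent.KOeab975c.k43 _ @x1 @(fun x3 => @Cfsg.Agent.KOeab975c.k43 _ @x2 @(fun x4 => @Nat.rec.{1} @(fun x5 => @Bool) @Bool.true @(fun x5 x6 => @Bool.rec.{1} @(fun x7 => @Bool) @Bool.false @x6 (@Nat.beq (@Nat.mod (@Nat.shiftRight @x3 (@Nat.mul (nat_lit 136) @x5)) @Cfsg.Agent.OM.Cu.Eng.BB) (@Nat.mod (@Nat.shiftRight @x4 (@Nat.mul (nat_lit 136) @x5)) @Cfsg.Agent.OM.Cu.Eng.BB))) (@Cfsg.Agent.OM.Cu.Eng.Tb.n @x0))))) ?_); rewrite [← Cfsg.Agent.KOeab975c.e43]; (try delta Cfsg.Agent.OM.Cu.Eng.Tb.eqv Cfsg.Agent.OM.Cu.Eng.aL Cfsg.Agent.OM.Cu.Eng.dg); (try generalize @Cfsg.Agent.OM.Cu.Eng.fc = g0); (try generalize @Cfsg.Agent.OM.Cu.Eng.BB = g1); rfl') | exact @Cfsg.Agent.OM.Cu.Eng.Tb.eqv | exact ()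
private theorem _root_.Cfsg.Agent.KOeab975c.e54 : (by first | exact @Cfsg.Agent.OM.Cu.Eng.Tb.eqv = @_root_.Cfsg.Agent.KOeab975c.k54 | exact True : Prop) := by first | (delta _root_.Cfsg.Agent.KOeab975c.k54; exact @Subtype.property _ (fun g => @Cfsg.Agent.OM.Cu.Eng.Tb.eqv = @g) _) | rfl | trivial
private noncomputable def _root_.Cfsg.Agent.KOeab975c.k55 : (by first | exact type_of% @Cfsg.Agent.OM.Cu.Eng.Tb.aR | exact Unit : Sort _) := by first | (refine @Subtype.val _ (fun g => @Cfsg.Agent.OM.Cu.Eng.Tb.aR = @g) (@Subtype.mk _ _ (@(fun x0 x1 x2 => @Cfsg.Agent.KOeab975c.k43 _ (@Nat.mod (@Nat.rec.{1} @(fun x3 => ℕ) (nat_lit 0) @(fun x3 x4 => @Nat.add (@Nat.mul (@Nat.add (@Cfsg.Agent.KOeab975c.k23 @x0 @x1 @x3) (@Nat.mul (nat_lit 3) @Cfsg.Agent.OM.Cu.Eng.NM)) (@Nat.mod (@Nat.shiftRight @x2 (@Nat.mul (nat_lit 136) @x3)) @Cfsg.Agent.OM.Cu.Eng.BB)) @x4) (@Cfsg.Agent.OM.Cu.Eng.Tb.n @x0)) @Cfsg.Agent.OM.Cu.Eng.NN) @(fun x3 => @Nat.rec.{1} @(fun x4 => ℕ) (nat_lit 0) @(fun x4 x5 => @Nat.add (@Nat.shiftLeft (@Nat.mod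 (@Nat.add (@Nat.mod (@Nat.shiftRight @x2 (@Nat.mul (nat_lit 136) @x4)) @Cfsg.Agent.OM.Cu.Eng.BB) (@Nat.mul @Cfsg.Agent.OM.Cu.Eng.NM (@Nat.mul (@Cfsg.Agent.KOeab975c.k3 @x0 @x1 @x4) @x3))) @Cfsg.Agent.OM.Cu.Eng.NN) (@Nat.mul (nat_lit 136) @x4)) @x5) (@Cfsg.Agent.OM.Cu.Eng.Tb.n @x0)))) ?_); rewrite [← Cfsg.Agent.KOeab975c.e3, ← Cfsg.Agent.KOeab975c.e23, ← Cfsg.Agent.KOeab975c.e43]; (try delta Cfsg.Agent.OM.Cu.Eng.Tb.aR Cfsg.Agent.OM.Cu.Eng.sL Cfsg.Agent.OM.Cu.Eng.dg Cfsg.Agent.OM.Cu.Eng.pk); (try generalize @Cfsg.Agent.OM.Cu.Eng.fc = g0); (try generalize @Cfsg.Agent.OM.Cu.Eng.Tb.ro = g1); (try generalize @Cfsg.Agent.OM.Cu.Eng.NM = g2); (try generalize @Cfsg.Agent.OM.Cu.Eng.BB = g3); (try generalize @Cfsg.Agent.OM.Cu.Eng.NN = g4); (try generalize @Cfsg.Agent.OM.Cu.Eng.Tb.co = g5); rfl') | exact @Cfsg.Agent.OM.Cu.Eng.Tb.aR | exact ()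
private theorem _root_.Cfsg.Agent.KOeab975c.e55 : (by first | exact @Cfsg.Agent.OM.Cu.Eng.Tb.aR = @_root_.Cfsg.Agent.KOeab975c.k55 | exact True : Prop) := by first | (delta _root_.Cfsg.Agent.KOeab975c.k55; exact @Subtype.property _ (fun g => @Cfsg.Agent.OM.Cu.Eng.Tb.aR = @g) _) | rfl | trivial

theorem rowsA0 : tA0.rows rA0 0 = true := by
  delta Tb.rows Tb.row Tb.ent Tb.aA
  rewrite [aw_eq]
  (first | (rewrite [Cfsg.Agent.KOeab975c.e49, Cfsg.Agent.KOeab975c.e43, Cfsg.Agent.KOeab975c.e50, Cfsg.Agent.KOeab975c.e52, Cfsg.Agent.KOeab975c.e2, Cfsg.Agent.KOeab975c.e53, Cfsg.Agent.KOeab975c.e41, Cfsg.Agent.KOeab975c.e54, Cfsg.Agent.KOeab975c.e55]; decide +kernel) | decide +kernel)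

theorem clsA0 : aL tA0.cls tA0.K = true := by decide +kernel

theorem rzA0 : rz tA0 kA0 1 = true := by decide +kernel

/-- the tables -/
def tA1 : Tb where
  n := 7
  K := 22
  R := 28
  nb := 0x775764753742731720771
  ip := 0x123456
  rt := 0x433333401111111043333420111111002433334001111110433342301111100024333420011111003243334000111110433423301111000024334230011110003243342000111100332433400001111043423330111000002434233001110000324342300011100033243420000111003332434000001110442333301100000024423330011000003244233000110000332442300001100033324420000011003333244000000110523333301000000025233330010000003252333000100000332523300001000033325230000010003333252000000100333332500000001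
  nx := 0x191b1b1b1b1b1a00171a1a1a1a181b001b1619191919170014181818151a18001a1317171714190016191216161613001015151118151500180f14141017140013170e13130f16001212160d12120e000b110c1511111100150a100b141010000f14090f0a130f000e0e13080e0912000d0d0d12070d08000506110c0c0c0c00110405100b0b0b000a1003040f0a0a0009090f02030e09000808080e01020d00070707070d000100000c0606060606000c000b0505050500040b000a0404040003030a00090303000202020900080200010101010800070000000000000700
  cw := 0x2110d111a22c688d63441c00000000000000000000000000000000000000000000000000000000000000000000000000000000000000028b46346c689000000000000000000000000000000000000000000000000000000000000000000000000000000000000000000000845a8d0a00000000000000000000000000000000000000000000000000000000000000000000000000000000000000000000029a8d0800000000000000000000000000000000000000000000000000000000000000000000000000000000000000000000000a2d060000000000000000000000000000000000000000000000000000000000000000000000000000000000000000000000002984000000000000000000000000000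00000000000000000000000000000000000000000000000000000000000028b46346c688f00000000000000000000000000000000000000000000000000000000000000000000000000000000000000000000029a8d0700000000000000000000000000000000000000000000000000000000000000000000000000000000000000000000009a8d07000000000000000000000000000000000000000000000000000000000000000000000000000000000000000000000000098300000000000000000000000000000000000000000000000000000000000000000000000000000000000000000000000a2d0500000000000000000000000000000000000000000000000000000000000000000000000000000000000000000000000029830000000000000000000000000000000000000000000000000000000000000000000000000000000000000000000000000583000000000000000000000000000000000000000000000000000000000000000000000000000000000000000000000000050300000000000000000000000000000000000000000000000000000000000000000000000000000000000000000000009a8d06000000000000000000000000000000000000000000000000000000000000000000000000000000000000000000000000098200000000000000000000000000000000000000000000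0000000000000000000000000000000000000000000000000000018200000000000000000000000000000000000000000000000000000000000000000000000000000000000000000000000001020000000000000000000000000000000000000000000000000000000000000000000000000000000000000000000000000082000000000000000000000000000000000000000000000000000000000000000000000000000000000000000000000000018100000000000000000000000000000000000000000000000000000000000000000000000000000000000000000000000000010000000000000000000000000000000000000000000000000000000000000000000000000000000000000000000000000000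
  od := 0x206060a1e0e0206040c060a06080206040406020402
  bd := 0x4040404040404040404040404000404040404040404
  jt := 0xf0f0f0f0f0f0f0f0f0f0f0f0f0f0f0f0f0f0f0f0f0f0f0f0f0f0f0f0f0f0d0d0d0d0d0e0d0d0d0e0e0d0d0d0e0e0e0d0d0d0e0e0e0e0d0f0e09090e0e0c09090c0c0c0e0c0c090c0c0c0c0e0e090c0b0c0909090d0d0e0e0d09090d0909090909090909090a09090d0e090a0a090e0e0c0c0b080c080b080808080c0a080c0808080a0b080b080a0808080b09090c0c090a0a090c08080c0908090c0809080c0c0a0a08080a0a0a15141414071414070714140707071414070707071414070707070714141212120713130705131305050513130506050512120506060507121414141214121212121212120512121212050512120712050505120713131310131010101011111005111010110504101006100404051006131111110611110303111106060311110303060611110306030303111210101005101005061111060503101003050305101006030306061012121313121210121310101012101005101010100505051003100505101011111011111011100311101103040410110404030303100303030f0d0d0e0f0e0e0e0e0e0e0e020e0e0e0e02020e0e0d0e0202020e0d0e0c0c0a0e0a0a0a0a0b0b0a020b0a0a0b02010a0a0c0a0101020a0c0e0e0e090e090a09090a0a0a0d0a0a090a0c0c0a0902090c010c09020c0c0c080c080808080808080c080808080c0c08080108010c0108010a0a0b0b0a0a080a0b0808080a080801080808080101010809080101070505050705060505060606070606050606060605050506000605050606060306030303030303030503030303040403030003040504030002010101020101010101010102010101010101010101010102010101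

/-- the conjugating words -/
noncomputable def rA1 : List (List ℕ) :=
  (by
  refine (?fq9003 : (fun (On : (n : Nat) → OfNat Nat n → Nat) (In : (n : Nat) → OfNat Nat n) => ((pk61l (fun i1 => (pk61l (fun i2 => (pk61o On In (pk61d (nat_lit 41) (Nat.add 
    (nat_lit 0x4800518d10240028b963100011634709000856358400042763c200021346e1200108d9a89000846cd440002c688c1c0011a22e0e00072eb187000351a343800138d581c00088975100004447707000221cb838000d8d1020000635ac1000031a230700016ac6840000b51ac20000558d10e0002a3440800014f58c38000a76342000053b1a0e00028cd60800011635838000872ea200004351a100002158f0800010ac783800084e3420000426a3100002111a870000d6344300005d634180002c6880e00011ab186000072c783800038d101c0001a8d60e0000d46a860000688b8300002763418000138d60e00009c6a8600004d47838000268ca18000117350e00008897060000363443000018d101c0000b8f50e00005c6b0700002d6b03800015634180000a7630e000053b186000029ad43800014d101c0000a21c0e0000458f06000021dd43800010e5c180000871a0e000042b30700002159830000109ca1c000084e30e000042370700001ac68300000d634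14000058d10a00001cb18500000d4682800004ec6140000272e0c0000138f06000009c682800004d46140000232e0a000011170500000758c3000002e6a18000016880c00000ad60600000558c3000002ac614000014f50c00000a76060000053b028000029cc18000014e50c00000a728500000538c28000029aa14000014460a00000a21860000045d430000022cc140000112e0a00000877050000042b82800002146180000109e0a0000084e0600000358c2800001ac61000000b1a08000004b1840000023442000000e5c140000072c080000038d0400000158c2000000a3c140000051a08000002730500000139420000009c6100000046508000001d605000000d8c20000005ea14000002e5080000016884000000ad4280000055814000002ac080000014f05000000a742000000538140000029c080000014705000000a20280000045c140000022e080000010b04000000850280000042614000001ac08000000d60300000058c18000002580c0000011e080000008d0300000038c18000001580c000000a608000000528300000028c180000013c100000009c060000004d03000000234180000011010000000750800000037030000001b018000000ca0c0000005d080000002e8300000015820000000aa0c0000005308000000298300000011818000000841000000035060000001a820000000b01000000046080000001e060000000e02000000068100000002c0c00000014040000000982000000038180000001a0c0000000d04000000050300000002810000000100c000000060400000003010000000140800000008040000000302000000010100000000410000000020400000000020000000000)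 (Nat.shiftLeft 
    (nat_lit 0x10e58d11a8c271d8d1185938d58d102c9c68d8d11645a8d6b18c2223b1a3859111ab1ac2c53963446162888d1ba8b10d112cd458272c688c28138d5d631409c6ac688a0444766b0502223b1ac280b444bac160539635a8a029cb1a385014d18d102c0a22346e16043b1a3a8a021a366b058109d8f5828084ec6b514042363d60a021112cd450071a22ea28019635ac1400cb1a2309005a8d1b048029d8d1028014e6b1a1200a72c688a00539634448029c6ac624014d19631200a225d60a005111d9848022c68ea24010d1b3512008563470a0042b1a20500213b1ea240109d8d6140084ec6b090042363d4500211b1ea2401088b35120038d11708001a8ec684000a3563420004e3563100026a356080013444b84000888ecc20004446ae1000221cba89000ab1a20480053b1a2200029cb1a120014e58d08000a71a20) (nat_lit 8000))) (pk61d (nat_lit 9) 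
    (nat_lit 0x4f9ecde6c34998ca7a2b92086401f1586a250f8746819078303009018200200001e4de6c34999de55479208640710cd5a250fb1c2ec607ac80edf4e8013e017a0c1faa334b59fc0404a297cea780c4fea92bb5c465b6f3d41a3c4f14d602600024606c34a5002007e93486b661859fe7366ab00cf62aa3800c47083d740a002dc0a772426002500489452514d015cc872a3b822e367ae026dd610f1c86d000244a050a03c02001c9dc2ccc05001a04a3b2180088672ac86fc801f1723b001548e411f8f4ca021988c3c1c1f02c2e0d058743807010307a00019900200000014e411fba40209422fc3cd829010bcd4600d820392a868520262b10361b000242c110812c02000901808402c01054000f8d8204c07868526405000127e0002400050a03c02002f8002c51050942a043c1800a74461f494924083472cb003c968fa11bec022002835b6f3108256a622a1a08cc97c2e0ce4457b04c297000001ab46500802091cbe908ed0d8e520be3b174721e6d225107c7cbb0e0701c8344a000a01c48001c9185e6e05000b8293e1800a29128ec0091598f47285481242205030b0e2001c8142c2e0500072722a0ec008b589f420d972af52086000002c11080f4020902018081c3a8482000059645429010e098000db7dc0090000000d274008020906aec2c220d8e40a04319742a4a13a6ce8273837dc0700002400000801c02002f814086e05095060046a988c954b280e69151094bec85d82400050203da2001680022320504532284e0dcee9357284e4d952aedcef71c83422000301c48001c8ac2c2e05000b88b278ec0a8b58980d8eb72aa1b8f1000e40000080e8020d068140845070e4400013a08b8d46a9c1520d5537dc0390002400000201c020016814202e050449c11278dc56954b168e6d9512edcef7000e576005e0e8020d3fb49a68007105461152108d4d46a9ad52495537dc090)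 i2)))) (Nat.mul (nat_lit 28) i1) (Nat.mul (nat_lit 28) (Nat.succ i1)) List.nil)) (nat_lit 0) (nat_lit 22) List.nil) : List (List ℕ)))
    = ?xq9003 → (List (List ℕ))) ?hq9003; (case hq9003 => (set_option maxRecDepth 1000000 in conv => lhs; reduce)); intro _; exact ?xq9003 (@OfNat.ofNat Nat) instOfNatNat : List (List ℕ))

/-- the kills -/
def kA1 : List (ℕ × ℕ) := [(3, 8)]

theorem basA1 : tA1.bas cA = true := by decide +kernel

theorem rowsA1 : tA1.rows rA1 0 = true := by
  delta Tb.rows Tb.row Tb.ent Tb.aA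
  rewrite [aw_eq]
  (first | (rewrite [Cfsg.Agent.KOeab975c.e49, Cfsg.Agent.KOeab975c.e43, Cfsg.Agent.KOeab975c.e50, Cfsg.Agent.KOeab975c.e52, Cfsg.Agent.KOeab975c.e2, Cfsg.Agent.KOeab975c.e53, Cfsg.Agent.KOeab975c.e41, Cfsg.Agent.KOeab975c.e54, Cfsg.Agent.KOeab975c.e55]; decide +kernel) | decide +kernel)

theorem clsA1 : aL tA1.cls tA1.K = true := by decide +kernel

theorem rzA1 : rz tA1 kA1 0 = true := by decide +kernel

/-- the tables -/
def tP0 : Tb where
  n := 7
  K := 33
  R := 18
  nb := 0x775776773742731720771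
  ip := 0x6543210
  rt := 0x33433340001111103343342000111100332433400001111033434230001110003324342000011100333243400000111044333330110000003344233000110000332442300001100033324420000011003333244000000110523333301000000025333330010000003352333000100000332523300001000033325230000010003333252000000100333332500000001
  nx := 0x11110f111111100010100d10100e11000f0f110c0f0f0d000e0e090e0a100e000d0d10080d090f000c0c0c0f070c080005060b0b0b0b0b000a0a03040e0a0a0009090e02030d09000808080d01020c00070707070c000100000b0606060606000b000505050505000404000a0404040003030a00090303000202020900080200010101010800070000000000000700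
  cw := 0x53970700000000000000000000000000000000000000000000000000000000000000000000000000000000000000000000000b970600000000000000000000000000000000000000000000000000000000000000000000000000000000000000000000000a970600000000000000000000000000000000000000000000000000000000000000000000000000000000000000000000000a770600000000000000000000000000000000000000000000000000000000000000000000000000000000000000000000000a7286000000000000000000000000000000000000000000000000000000000000000000000000000000000000000000000002970500000000000000000000000000000000000000000000000000000000000000000000000000000000000000000000000177050000000000000000000000000000000000000000000000000000000000000000000000000000000000000000000000017285000000000000000000000000000000000000000000000000000000000000000000000000000000000000000000000001570500000000000000000000000000000000000000000000000000000000000000000000000000000000000000000000000152850000000000000000000000000000000000000000000000000000000000000000000000000000000000000000000000014e85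0000000000000000000000000000000000000000000000000000000000000000000000000000000000000000000000014e050000000000000000000000000000000000000000000000000000000000000000000000000000000000000000000000005704000000000000000000000000000000000000000000000000000000000000000000000000000000000000000000000000528400000000000000000000000000000000000000000000000000000000000000000000000000000000000000000000000037040000000000000000000000000000000000000000000000000000000000000000000000000000000000000000000000002e840000000000000000000000000000000000000000000000000000000000000000000000000000000000000000000000002e040000000000000000000000000000000000000000000000000000000000000000000000000000000000000000000000002a840000000000000000000000000000000000000000000000000000000000000000000000000000000000000000000000002a040000000000000000000000000000000000000000000000000000000000000000000000000000000000000000000000002984000000000000000000000000000000000000000000000000000000000000000000000000000000000000000000000000170300000000000000000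00000000000000000000000000000000000000000000000000000000000000000000000000000000a830000000000000000000000000000000000000000000000000000000000000000000000000000000000000000000000000a030000000000000000000000000000000000000000000000000000000000000000000000000000000000000000000000000683000000000000000000000000000000000000000000000000000000000000000000000000000000000000000000000000058300000000000000000000000000000000000000000000000000000000000000000000000000000000000000000000000005030000000000000000000000000000000000000000000000000000000000000000000000000000000000000000000000001702000000000000000000000000000000000000000000000000000000000000000000000000000000000000000000000000028200000000000000000000000000000000000000000000000000000000000000000000000000000000000000000000000001020000000000000000000000000000000000000000000000000000000000000000000000000000000000000000000000000082000000000000000000000000000000000000000000000000000000000000000000000000000000000000000000000000028100000000000000000000000000000000000000000000000000000000000000000000000000000000000000000000000000010000000000000000000000000000000000000000000000000000000000000000000000000000000000000000000000000000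
  od := 0x6030c0f060606060c040a06060203060304040506020206060403020203020201
  bd := 0x40004000404040404040404040400040004040004040404040400040400040400
  jt := 0x1d1e1e1f1f1f1c1e1e1e1e1c1c1d1d1d1d1d202020202020191a20201a19191a1a201a1a20202020201a1720201b1b171718201a1a1a202018201a1a16201a1a1a161620181818181617171919192017171717201516161616161e1e1e1e1e1e131e1e1e1e1313141e141e141e1e1d1e1d1d111f1d1d1411111f121d14141c1c1c1c1c1c1f111c1c111f1011111c11111d1d1d1d1d120f1d1d14140f0f1e1d1212121c1c1c1c1c111e1c1c13131e0e0f1c1111111c1c0f1c11111d1c1111111d0d1c0f0f0f0f0d0e0e1010101c0e0e0e0e1c1c0d0d0d0d0d1a1a1a1a1a180b1a1a18180b0b1b1a0c180c1717171717171b171717171b0a0b170b170b181818181818091a18180c09091a1a180c0c1717161716161a1916160b1a081909160b0b1515151515151908151508191908081508081616161616091816160b0b180717160909091515151515081715150a0a1717071508080815150715080816150808081616150707070712121214121205141412120505141414120611111111110f1411110f0f14041311050f050e0e0e0e0e0e130e0e0e0e1313040e040e040f0f0f0f0f0f12110f0f05120311110f05050e0e0d0e0d0d11100d0d04111110030d04040d0d0d0d0d030f0d0d04040f0f0e0d0303030c0c0c0c0c0c020c0c0c0c02020c0c0c0c0c0909090b09090c0b0b09090c010b0b0b09020808080808070b080807070b0b0a08010701070707070707090807070109090808070101050505050505060505050506000505050505030303040303050404030305050404040300010101010101020101010102020101010101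

/-- the conjugating words -/
noncomputable def rP0 : List (List ℕ) :=
  (by
  refine (?fq9004 : (fun (On : (n : Nat) → OfNat Nat n → Nat) (In : (n : Nat) → OfNat Nat n) => ((pk61l (fun i1 => (pk61l (fun i2 => (pk61o On In (pk61d (nat_lit 39) 
    (nat_lit 0x443463440b110d18d11404d111a22809a2234448110d18d09006888d11200d111a22000845a8c400044346080008868c0e000845a81c00068c6830000886887000110d10c000108b8180002116830000234405000026a30c00004d461400004270280000846050000108b0a000011a21000001a8c280000351840000068808000008b4100000111020000014e04000002230800000438100000084c200000108840000011a06000001c60c00000350180000068830000009c08000001380c00000220180000031840000005c08000000a60c0000010c18000002103000000350400000046080000007010000000d020000001306000000260800000044100000005830000000a0400000010080000001808000000281000000040200000006040000000810000000101000000010400000002040000000008000000000) (pk61d (nat_lit 7) 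
    (nat_lit 0x182a3e4839312e9aa82200019340138080fc1920e4c4bc1460000008cb92444582a3e4801312005203c0091958012874e708060e4c4b34c388800064d00480182a3e4838010e9aa822000193401380740543b004c4800ae9f0008a5ea85eb939c0600313124050c0000015341911180fc1920e0043c1460000008cb924444c8d0818013120050e2200016340120760a8f9200004001480f0024656004a1d39c201838010cd30e2200019340120060a8f920e009ba6aa08890064d004e0100100d001312002b3700020f6e38d9a740543b00004000ae9f0008a5ea85eb85020800913120050e0e0001534191114e701800c0041014300000054d06444603f064838026f051800240232e491113234206000040014388800058d00481d82a3e4800026005203c2491958012874e708060e009b34c388890064d004800001004141312002863a0020f2238d9a400403400004000acdc00083db8e3669d0150ec00026002ba7c242297aa17ae1408200240040014383800054d06444539c0600300264050c002401534191113234206000098014388890058d00481c00a40c5c931208a2b6c005a164596a4000401050004000a18e80083c88e366900100d000026002b3702420f6e38d9a1408200240098014383890054d06444400a40c5c801008a2b6c005a164596a4000401050009800a18e89083c88e366800a40c5c802608a2b6c245a164596a4)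 i2)))) (Nat.mul (nat_lit 18) i1) (Nat.mul (nat_lit 18) (Nat.succ i1)) List.nil)) (nat_lit 0) (nat_lit 33) List.nil) : List (List ℕ)))
    = ?xq9004 → (List (List ℕ))) ?hq9004; (case hq9004 => (set_option maxRecDepth 1000000 in conv => lhs; reduce)); intro _; exact ?xq9004 (@OfNat.ofNat Nat) instOfNatNat : List (List ℕ))

/-- the kills -/
def kP0 : List (ℕ × ℕ) := [(1, 3), (2, 6), (7, 13), (8, 16), (9, 18), (22, 29), (25, 31)]

theorem basP0 : tP0.bas c52 = true := by decide +kernel

theorem rowsP0 : tP0.rows rP0 0 = true := by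
  delta Tb.rows Tb.row Tb.ent Tb.aA
  rewrite [aw_eq]
  (first | (rewrite [Cfsg.Agent.KOeab975c.e49, Cfsg.Agent.KOeab975c.e43, Cfsg.Agent.KOeab975c.e50, Cfsg.Agent.KOeab975c.e52, Cfsg.Agent.KOeab975c.e2, Cfsg.Agent.KOeab975c.e53, Cfsg.Agent.KOeab975c.e41, Cfsg.Agent.KOeab975c.e54, Cfsg.Agent.KOeab975c.e55]; decide +kernel) | decide +kernel)

theorem clsP0 : aL tP0.cls tP0.K = true := by decide +kernel

theorem rzP0 : rz tP0 kP0 1 = true := by decide +kernel

/-- the tables -/
def tP1 : Tb where
  n := 7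
  K := 33
  R := 18
  nb := 0x775776773742731720771
  ip := 0x6501234
  rt := 0x33433340001111103343342000111100332433400001111033434230001110003324342000011100333243400000111044333330110000003344233000110000332442300001100033324420000011003333244000000110523333301000000025333330010000003352333000100000332523300001000033325230000010003333252000000100333332500000001
  nx := 0x11110f111111100010100d10100e11000f0f110c0f0f0d000e0e090e0a100e000d0d10080d090f000c0c0c0f070c080005060b0b0b0b0b000a0a03040e0a0a0009090e02030d09000808080d01020c00070707070c000100000b0606060606000b000505050505000404000a0404040003030a00090303000202020900080200010101010800070000000000000700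
  cw := 0x10886888d1171100000000000000000000000000000000000000000000000000000000000000000000000000000000000000000000145a3709000000000000000000000000000000000000000000000000000000000000000000000000000000000000000000000042370700000000000000000000000000000000000000000000000000000000000000000000000000000000000000000000000157050000000000000000000000000000000000000000000000000000000000000000000000000000000000000002110d111a229000000000000000000000000000000000000000000000000000000000000000000000000000000000000000000000145a3708000000000000000000000000000000000000000000000000000000000000000000000000000000000000000000000001570400000000000000000000000000000000000000000000000000000000000000000000000000000000000000000000028b46880000000000000000000000000000000000000000000000000000000000000000000000000000000000000000000000005704000000000000000000000000000000000000000000000000000000000000000000000000000000000000000000000008468600000000000000000000000000000000000000000000000000000000000000000000000000000000000000000000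000037040000000000000000000000000000000000000000000000000000000000000000000000000000000000000000000000002a8400000000000000000000000000000000000000000000000000000000000000000000000000000000000000004221a223440f00000000000000000000000000000000000000000000000000000000000000000000000000000000000000000000028b468700000000000000000000000000000000000000000000000000000000000000000000000000000000000000000000000057030000000000000000000000000000000000000000000000000000000000000000000000000000000000000000000000002a83000000000000000000000000000000000000000000000000000000000000000000000000000000000000000000000000170300000000000000000000000000000000000000000000000000000000000000000000000000000000000000000000005168870000000000000000000000000000000000000000000000000000000000000000000000000000000000000000000000000a8300000000000000000000000000000000000000000000000000000000000000000000000000000000000000000000000108850000000000000000000000000000000000000000000000000000000000000000000000000000000000000000000000000683000000000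0000000000000000000000000000000000000000000000000000000000000000000000000000000000000000503000000000000000000000000000000000000000000000000000000000000000000000000000000000000000000000000170200000000000000000000000000000000000000000000000000000000000000000000000000000000000000000000005168860000000000000000000000000000000000000000000000000000000000000000000000000000000000000000000000000a8200000000000000000000000000000000000000000000000000000000000000000000000000000000000000000000000005020000000000000000000000000000000000000000000000000000000000000000000000000000000000000000000000000282000000000000000000000000000000000000000000000000000000000000000000000000000000000000000000000000010200000000000000000000000000000000000000000000000000000000000000000000000000000000000000000000000000820000000000000000000000000000000000000000000000000000000000000000000000000000000000000000000000000281000000000000000000000000000000000000000000000000000000000000000000000000000000000000000000000000010100000000000000000000000000000000000000000000000000000000000000000000000000000000000000000000000000010000000000000000000000000000000000000000000000000000000000000000000000000000000000000000000000000000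
  od := 0x606061e020606060c06060a020206060c060406060a0602020604040602020402
  bd := 0x40404040404040404040004040404040404040404040404040404040004040404
  jt := 0x1b1b1b1b1b1b1c1b1b1b1b1c1c1b1b1b1b1b1b1b1818181819181a18181919181a1a181b1a16161a1a161716161a1a1717161a16161618181a1a1816151618161815151a16161a1a131313131313201313131320141313131313201f1f1f121f131f12121f13131f1212121f1f1d1d1d121e111e12101d11111d1010121d13130e0e0e0e1f0e110e0e1f0f0e11110e131f1f1f1d1f1d0e1d1d1d1d0e0e121d101d12110c0c11110c1e0c0c11111e0d0c110c0c0c1d1d1e1e1d1d0c101d1e100c0c10101d10100e0e11110e0c1d0c0e0c0e1d0b110c0c11110909090909091c090909091c1c09090909091c19191908191b190808191b0919080808191b18181a1b1a081a1a1a1a0808181a0a1a181915151508171a170806151a0715060608151a1a1a161a16061616161606060a1618160a090905050505190507050519190507070509191919151915181515151518050815061508070404070704170404070717170407040404151517171515160615170616040606150606050507070504150405040515150704040707121010101210031010101003031010121010140f0f0f020f130f02020f13130f0202020f130e0e111311121111111112020e1103110e0f0b0b0b020d110d02010b11110b0101020b1111110c110c100c0c0c0c1001030c0e0c030f0f0f0b0f0b0e0b0b0b0b0e0e020b010b020b0b0d0d0b0b0c010b0d010c0c01010b01010806060608060a060606060a000606080606090505070907080707070708080507000705070707040704060404040406060004050400020101010201030101010103030101020101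

/-- the conjugating words -/
noncomputable def rP1 : List (List ℕ) :=
  (by
  refine (?fq9005 : (fun (On : (n : Nat) → OfNat Nat n → Nat) (In : (n : Nat) → OfNat Nat n) => ((pk61l (fun i1 => (pk61l (fun i2 => (pk61o On In (pk61d (nat_lit 24) 
    (nat_lit 0x8871875346064351861a22051344051168850b44060a8d050a68860a68850a2205087186086a06086a05046884038d04034405027184026884023185016884014d05014d04014605014405010e05010e04010985008d04008d03006883004e04004404003184002e03002d04002d03002a04002984002983002203002104001a82001183001182000e03000d02000a03000982000882000603000583000582000503000502000403000301000281000202000201000181000101000082000081000001000000) (pk61d (nat_lit 7) 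
    (nat_lit 0x19a54070d971290b0f1800a870618080008d01c805c4935a3dd800ae188066057847859e97121039a60003aa6441ba1001c211025c480784d48000add0f7c299a54070d801090b0f1800a870618080004c68b365c4820a08600160019a020000068fc097121d393280020258acc99008d01c80004135a3dd800ae188066040070044097120090f300021a14003a65e11e167a004040e698000ea99106e8538d0814f971200213140002e642d3a9001c2110200400784d48000add0f7c299a54070d802e90b0f1824a870618080004c68b36004020a08600160019a0200000002c097121c202440090032e1c870001a3f02004074e4ca00080962b326400700140971200913140022e3081b41008d01c8000b935a3dd890ae188066040070044080100090f300021a14003a65e11e167a00b840e698090ea99106e8538d0814f801000213140002e642d3a9001c2110200b80784d48900add0f7c2802700a00971235a351c00e8d3ce1ca7004c68b3600b820a08609160019a0200000002c080101c202440090032e1c870001a3f0200b874e4ca09080962b326400700140801000913140022e3081b41001c0110200b80243cc0908685000e9938d0814f802e00213142402e642d3a9009c028020040d68d47003a34f38729c000002c0802e1c202442490032e1c87001c0050200b80244c50908b8c206d0402700a00802e35a351c24e8d3ce1ca7)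 i2)))) (Nat.mul (nat_lit 18) i1) (Nat.mul (nat_lit 18) (Nat.succ i1)) List.nil)) (nat_lit 0) (nat_lit 33) List.nil) : List (List ℕ)))
    = ?xq9005 → (List (List ℕ))) ?hq9005; (case hq9005 => (set_option maxRecDepth 1000000 in conv => lhs; reduce)); intro _; exact ?xq9005 (@OfNat.ofNat Nat) instOfNatNat : List (List ℕ))

/-- the kills -/
def kP1 : List (ℕ × ℕ) := [(1, 4), (12, 22)]

theorem basP1 : tP1.bas c52 = true := by decide +kernel

theorem rowsP1 : tP1.rows rP1 0 = true := by
  delta Tb.rows Tb.row Tb.ent Tb.aA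
  rewrite [aw_eq]
  (first | (rewrite [Cfsg.Agent.KOeab975c.e49, Cfsg.Agent.KOeab975c.e43, Cfsg.Agent.KOeab975c.e50, Cfsg.Agent.KOeab975c.e52, Cfsg.Agent.KOeab975c.e2, Cfsg.Agent.KOeab975c.e53, Cfsg.Agent.KOeab975c.e41, Cfsg.Agent.KOeab975c.e54, Cfsg.Agent.KOeab975c.e55]; decide +kernel) | decide +kernel)

theorem clsP1 : aL tP1.cls tP1.K = true := by decide +kernel

theorem rzP1 : rz tP1 kP1 0 = true := by decide +kernel

/-- the tables -/
def tP2 : Tb where
  n := 7
  K := 33
  R := 18
  nb := 0x775776773742731720771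
  ip := 0x5643210
  rt := 0x33433340001111103343342000111100332433400001111033434230001110003324342000011100333243400000111044333330110000003344233000110000332442300001100033324420000011003333244000000110523333301000000025333330010000003352333000100000332523300001000033325230000010003333252000000100333332500000001
  nx := 0x11110f111111100010100d10100e11000f0f110c0f0f0d000e0e090e0a100e000d0d10080d090f000c0c0c0f070c080005060b0b0b0b0b000a0a03040e0a0a0009090e02030d09000808080d01020c00070707070c000100000b0606060606000b000505050505000404000a0404040003030a00090303000202020900080200010101010800070000000000000700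
  cw := 0x29cba8800000000000000000000000000000000000000000000000000000000000000000000000000000000000000000000000a728600000000000000000000000000000000000000000000000000000000000000000000000000000000000000000000005cba870000000000000000000000000000000000000000000000000000000000000000000000000000000000000000000000017285000000000000000000000000000000000000000000000000000000000000000000000000000000000000000000000054ba870000000000000000000000000000000000000000000000000000000000000000000000000000000000000000000000015285000000000000000000000000000000000000000000000000000000000000000000000000000000000000000000000053ba870000000000000000000000000000000000000000000000000000000000000000000000000000000000000000000000014e850000000000000000000000000000000000000000000000000000000000000000000000000000000000000000000000014e05000000000000000000000000000000000000000000000000000000000000000000000000000000000000000000000014ba86000000000000000000000000000000000000000000000000000000000000000000000000000000000000000000000000528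400000000000000000000000000000000000000000000000000000000000000000000000000000000000000000000000bba860000000000000000000000000000000000000000000000000000000000000000000000000000000000000000000000002e840000000000000000000000000000000000000000000000000000000000000000000000000000000000000000000000002e0400000000000000000000000000000000000000000000000000000000000000000000000000000000000000000000000aba860000000000000000000000000000000000000000000000000000000000000000000000000000000000000000000000002a840000000000000000000000000000000000000000000000000000000000000000000000000000000000000000000000002a040000000000000000000000000000000000000000000000000000000000000000000000000000000000000000000000002984000000000000000000000000000000000000000000000000000000000000000000000000000000000000000000000002ba850000000000000000000000000000000000000000000000000000000000000000000000000000000000000000000000000a830000000000000000000000000000000000000000000000000000000000000000000000000000000000000000000000000a030000000000000000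00000000000000000000000000000000000000000000000000000000000000000000000000000001ba85000000000000000000000000000000000000000000000000000000000000000000000000000000000000000000000000068300000000000000000000000000000000000000000000000000000000000000000000000000000000000000000000000005830000000000000000000000000000000000000000000000000000000000000000000000000000000000000000000000000503000000000000000000000000000000000000000000000000000000000000000000000000000000000000000000000000ba84000000000000000000000000000000000000000000000000000000000000000000000000000000000000000000000000028200000000000000000000000000000000000000000000000000000000000000000000000000000000000000000000000001020000000000000000000000000000000000000000000000000000000000000000000000000000000000000000000000000082000000000000000000000000000000000000000000000000000000000000000000000000000000000000000000000000ba83000000000000000000000000000000000000000000000000000000000000000000000000000000000000000000000000028100000000000000000000000000000000000000000000000000000000000000000000000000000000000000000000000000010000000000000000000000000000000000000000000000000000000000000000000000000000000000000000000000000000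
  od := 0x6060606040c0a1e060206060606040c040a020602060606040206020602060202
  bd := 0x40404000404040004040404040404040404040404040004040404040404000404
  jt := 0x1a1c1c1e1e1e181c1c1c1c18181a1a1a1a1a191b1b1d1d1d181b1b1b1b181819191919192020202020201315202015131315152015151f1f1f1f1f1f13141f1f14131314141f14142020202020151020201717101012201515151f1f1f1f1f14101f1f16161010111f1414142020122015150f201515150f0f20121212121f1f111f14140f1f1414140f0f1f111111110f101013131320101010101f1f0f0f0f0f0f1c1c1c1c1c1c0c1c1c1c1c0c0c0e1c0e1c0e1b1b1b1b1b1b0c1b1b1b1b0c0c0d1b0d1b0d1c1c1a1c1a1a091e1a1a0e09091e0b1a0e0e1b1b191b1919091d19190d09091d0a190d0d1818181818181e091818091d1d09091809091a1a1a1a1a0b081a1a0e0e08081c1a0b0b0b19191919190a0819190d0d08081b190a0a0a1818181818091c18180c0c1b1b08180909091818081809091a180909091919180808080815151515151205151512120505171507120714141414141105141411110505161406110610101010101017101010101616051005100512121212121204151212070404151512070711111111111104141111060404141411060610100f100f0f15130f0f05141413040f05050f0f0f0f0f04120f0f05051111100f0404040b0b0b0e0b0b010e0e0b0b01010e0e0e0b030a0a0a0d0a0a010d0d0a0a01010d0d0d0a020909090909080e090908080d0d0c090108010808080808080b090808010a0a0909080101070707070707000707070700000707070707060606060606000606060600000606060606040404050404070505040406060505050400010101010101030101010102020101010101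

/-- the conjugating words -/
noncomputable def rP2 : List (List ℕ) :=
  (by
  refine (?fq9006 : (fun (On : (n : Nat) → OfNat Nat n → Nat) (In : (n : Nat) → OfNat Nat n) => ((pk61l (fun i1 => (pk61l (fun i2 => (pk61o On In (pk61d (nat_lit 39) 
    (nat_lit 0x8868c68816221a31a22809a22344501344468890221a31a1200d111a22401a22344400108b51880008868c1000110d181c00108b5038000d18d06000110d10e000221a2180002117030000422d06000046880a00004d461800009a8c28000084e050000108c0a00002116140000234420000035185000006a30800000d101000001168200000222040000029c08000004461000000870200000109840000021108000002340c0000038c18000006a03000000d106000001381000000270180000044030000006308000000b8100000014c18000002183000000420600000046080000007010000000d020000001306000000260800000044100000005830000000a0400000010080000001808000000281000000040200000006040000000810000000101000000010400000002040000000008000000000) (pk61d (nat_lit 6) 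
    (nat_lit 0xbe97921c9239d27440018640980be97921c0279d27448018640980ffe0d21c923b297000022592851ffe0d21c027b297008022592851be979200920029f740498ac0907be979200024029f748498ac090799b4061c923294e4400186408c099b4061c027294e4480186408c0be97921c0239d27440018640980e419fa009200179f40128f27bade419fa000240179f48128f27bad99b0c018921028c00001464685199b0c018025028c008014646851ffe0d21c023b29700002259285160d10600920028e4400156408c760d10600024028e4480156408c7be979200020029f740498ac090799b4061c023294e4400186408c07c1033009200172dc010fd8e6997c1033000240172dc810fd8e699e419fa000200179f40128f27bad28210048920028e1c001464685128210048024028e1c801464685199b0c018021028c00001464685160d10600020028e4400156408c70010109c920014670010f44e6990010109c024014670810f44e6997c1033000200172dc010fd8e69928210048020028e1c001464685100a7f0e092024ead402e0c55b2300a7f0e002424ead482e0c55b230010109c020014670010f44e69900a7f0e002024ead402e0c55b23) i2)))) (Nat.mul (nat_lit 18) i1) (Nat.mul (nat_lit 18) (Nat.succ i1)) List.nil)) (nat_lit 0) (nat_lit 33) List.nil)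 : List (List ℕ)))
    = ?xq9006 → (List (List ℕ))) ?hq9006; (case hq9006 => (set_option maxRecDepth 1000000 in conv => lhs; reduce)); intro _; exact ?xq9006 (@OfNat.ofNat Nat) instOfNatNat : List (List ℕ))

/-- the kills -/
def kP2 : List (ℕ × ℕ) := [(0, 2), (4, 10), (15, 25), (19, 29)]

theorem basP2 : tP2.bas c52 = true := by decide +kernel

theorem rowsP2 : tP2.rows rP2 0 = true := by
  delta Tb.rows Tb.row Tb.ent Tb.aA
  rewrite [aw_eq]
  (first | (rewrite [Cfsg.Agent.KOeab975c.e49, Cfsg.Agent.KOeab975c.e43, Cfsg.Agent.KOeab975c.e50, Cfsg.Agent.KOeab975c.e52, Cfsg.Agent.KOeab975c.e2, Cfsg.Agent.KOeab975c.e53, Cfsg.Agent.KOeab975c.e41, Cfsg.Agent.KOeab975c.e54, Cfsg.Agent.KOeab975c.e55]; decide +kernel) | decide +kernel)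

theorem clsP2 : aL tP2.cls tP2.K = true := by decide +kernel

theorem rzP2 : rz tP2 kP2 0 = true := by decide +kernel

/-- the tables -/
def tP3 : Tb where
  n := 7
  K := 33
  R := 18
  nb := 0x775776773742731720771
  ip := 0x5601234
  rt := 0x33433340001111103343342000111100332433400001111033434230001110003324342000011100333243400000111044333330110000003344233000110000332442300001100033324420000011003333244000000110523333301000000025333330010000003352333000100000332523300001000033325230000010003333252000000100333332500000001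
  nx := 0x11110f111111100010100d10100e11000f0f110c0f0f0d000e0e090e0a100e000d0d10080d090f000c0c0c0f070c080005060b0b0b0b0b000a0a03040e0a0a0009090e02030d09000808080d01020c00070707070c000100000b0606060606000b000505050505000404000a0404040003030a00090303000202020900080200010101010800070000000000000700
  cw := 0x8443444688ba920000000000000000000000000000000000000000000000000000000000000000000000000000000000000002110d111a229000000000000000000000000000000000000000000000000000000000000000000000000000000000000000000000a2d1ba8a00000000000000000000000000000000000000000000000000000000000000000000000000000000000000000000028b4688000000000000000000000000000000000000000000000000000000000000000000000000000000000000000000000211ba88000000000000000000000000000000000000000000000000000000000000000000000000000000000000000000000008468600000000000000000000000000000000000000000000000000000000000000000000000000000000000000000000000aba8600000000000000000000000000000000000000000000000000000000000000000000000000000000000000000000000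02a8400000000000000000000000000000000000000000000000000000000000000000000000000000000000000004221a223440f00000000000000000000000000000000000000000000000000000000000000000000000000000000000000000000a2d1ba8900000000000000000000000000000000000000000000000000000000000000000000000000000000000000000000028b468700000000000000000000000000000000000000000000000000000000000000000000000000000000000000000000000aba850000000000000000000000000000000000000000000000000000000000000000000000000000000000000000000000002a830000000000000000000000000000000000000000000000000000000000000000000000000000000000000000000000516887000000000000000000000000000000000000000000000000000000000000000000000000000000000000000000000002ba850000000000000000000000000000000000000000000000000000000000000000000000000000000000000000000000000a83000000000000000000000000000000000000000000000000000000000000000000000000000000000000000000000001ba850000000000000000000000000000000000000000000000000000000000000000000000000000000000000000000000010885000000000000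000000000000000000000000000000000000000000000000000000000000000000000000000000000000068300000000000000000000000000000000000000000000000000000000000000000000000000000000000000000000000005030000000000000000000000000000000000000000000000000000000000000000000000000000000000000000000000516886000000000000000000000000000000000000000000000000000000000000000000000000000000000000000000000002ba840000000000000000000000000000000000000000000000000000000000000000000000000000000000000000000000000a820000000000000000000000000000000000000000000000000000000000000000000000000000000000000000000000000502000000000000000000000000000000000000000000000000000000000000000000000000000000000000000000000000ba84000000000000000000000000000000000000000000000000000000000000000000000000000000000000000000000000028200000000000000000000000000000000000000000000000000000000000000000000000000000000000000000000000001020000000000000000000000000000000000000000000000000000000000000000000000000000000000000000000000000082000000000000000000000000000000000000000000000000000000000000000000000000000000000000000000000000ba830000000000000000000000000000000000000000000000000000000000000000000000000000000000000000000000000281000000000000000000000000000000000000000000000000000000000000000000000000000000000000000000000000010100000000000000000000000000000000000000000000000000000000000000000000000000000000000000000000000000010000000000000000000000000000000000000000000000000000000000000000000000000000000000000000000000000000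
  od := 0x206060606060a1e020206060606040c0606060a02020606040c04060206020402
  bd := 0x40404040404040404040404040404040404000404040404040404040404040404
  jt := 0x1717171717171817171717181817171717171616161616161816161616181816161616161717121212121312151212131312151512171616111111111311141111131311141411161510101515100f101015150f0f1015101010140e0e14140e0f0e0e14140f0f0e140e0e0e1212151512100d101210120d0d151010151511111414110e0d0e110e110d0d140e0e14140c0c0c0c0c0c200c0c0c0c1f1f0c0c0c0c0c201e1e1e0b1e0c1e0b0b1e0c0c1e0b0b0b1e1f1d1d1d0a1d0c1d0a0a1d0c0c1d0a0a0a1d1e1a1a1a0b1c091c0b081a09091a08080b1a1d1919190a1b091b0a071909091907070a190c0c060606061e060906061d1d060909060c1e1e1e1a1e1a061a1a1a1a06060b1a081a0b1d1d1d191d19061919191906060a1907190a1a1a1c1c1a1a05081a1c08050508081a08080905050909051c050509091b1b050905050519191b1b19190507191b07050507071907070606090906051a0506050619190905050909181313130213171302021316161302020213171212151715021515151502021215041512161111141614021414141402021114031411130d0d0d020f150f02010d14140d0101020d1515151015100110101010010104101210041414140e140e010e0e0e0e0101030e110e031313130d130d120d0d0d0d1111020d010d020d0d0f0f0d0d10010d0f010e0e01010d01010b0808080b080008080808000008080b08080a0707070a070007070707000007070a07070c0606090c090b090909090a0a0609000906090909050905080505050507070005060500020101010201040101010103030101020101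

/-- the conjugating words -/
noncomputable def rP3 : List (List ℕ) :=
  (by
  refine (?fq9007 : (fun (On : (n : Nat) → OfNat Nat n → Nat) (In : (n : Nat) → OfNat Nat n) => ((pk61l (fun i1 => (pk61l (fun i2 => (pk61o On In (pk61d (nat_lit 24) 
    (nat_lit 0x8871875346064351861a22051344051168850b44060a8d050a68860a68850a2205087186086a06086a05046884038d04034405027184026884023185016884014d05014d04014605014405010e05010e04010985008d04008d03006883004e04004404003184002e03002d04002d03002a04002984002983002203002104001183001182000e03000d02000a03000982000882000603000583000582000503000502000403000301000281000202000201000181000101000082000081000001000000) (pk61d (nat_lit 7) 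
    (nat_lit 0x19243e6cd09108cb0f1800a8706180806490f9b34004a32c3c6082a1c18602000223e6df89104d60f74002b760019010088f9b7e00493583dd080add80064057047659e0910103995e003a96241b205c11d9678004840e657880ea58906c8000708440891001d93500002a723de8a001c2110200480764d40800a9c8f7a299243e6cd00108cb0f1800a870618080004c68b34244020a08600160019902000131a2cd0012082821820580066408000019be02244074c4ca0008095aa306000066f8080121d313282020256a8c180088f9b7e00413583dd000add80064040070044089100090f2e0021914003a5001c0110200480243cb8808645000e9530d0814f091000213140002d622d3285c11d9678004040e657800ea58906c8130d0814f001200213142002d622d328001c2110200400764d40000a9c8f7a280131a2cd00100828218005800664080000000b022440708090802400c37701c000002c080121c202422090030ddc0700019be02004074c4ca0008095aa306000700140891000913140022d2e7dac0001c0050200480244c50808b4b9f6b000070044080100090f2e0021914003a54c342053c00400084c50000b588b4ca0026009c08910359b41c00e0d3addc260098027020048d66d07083834eb77098000002c080101c202420090030ddc07001c0050200400244c50008b4b9f6b00026009c08010359b41c00e0d3addc26)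 i2)))) (Nat.mul (nat_lit 18) i1) (Nat.mul (nat_lit 18) (Nat.succ i1)) List.nil)) (nat_lit 0) (nat_lit 33) List.nil) : List (List ℕ)))
    = ?xq9007 → (List (List ℕ))) ?hq9007; (case hq9007 => (set_option maxRecDepth 1000000 in conv => lhs; reduce)); intro _; exact ?xq9007 (@OfNat.ofNat Nat) instOfNatNat : List (List ℕ))

/-- the kills -/
def kP3 : List (ℕ × ℕ) := [(5, 14)]

theorem basP3 : tP3.bas c52 = true := by decide +kernel

theorem rowsP3 : tP3.rows rP3 0 = true := by
  delta Tb.rows Tb.row Tb.ent Tb.aA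
  rewrite [aw_eq]
  (first | (rewrite [Cfsg.Agent.KOeab975c.e49, Cfsg.Agent.KOeab975c.e43, Cfsg.Agent.KOeab975c.e50, Cfsg.Agent.KOeab975c.e52, Cfsg.Agent.KOeab975c.e2, Cfsg.Agent.KOeab975c.e53, Cfsg.Agent.KOeab975c.e41, Cfsg.Agent.KOeab975c.e54, Cfsg.Agent.KOeab975c.e55]; decide +kernel) | decide +kernel)

theorem clsP3 : aL tP3.cls tP3.K = true := by decide +kernel

theorem rzP3 : rz tP3 kP3 0 = true := by decide +kernel

end Cfsg.Agent.OM.On.F7.TA
end

-- part: OM/On/F7/TA
section
/-!
# OM/On/F7 : the box `TA`, the cosets of `A₇` and `A₅ A₂` (helper34)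
-/

set_option autoImplicit false
set_option maxHeartbeats 200000
set_option synthInstance.maxSize 1024

namespace Cfsg.Agent.OM.On.F7

open Cfsg Matrix Cfsg.Agent.HZ.L Cfsg.Agent.BZ.TA Cfsg.Agent.BZ.TA.Cl Cfsg.Agent.OM.Cu Cfsg.Agent.OM.Cu.Eng

namespace TA

theorem carA : Car (cm 7 cA) ![1, 1, 1, 1, 1, 1, 1] :=
  car_of 840 ![420, 140, 70, 42, 28, 20, 15]
    !![2, -1, 0, 0, 0, 0, 0; 0, 3, -2, 0, 0, 0, 0; 0, 0, 4, -3, 0, 0, 0; 0, 0, 0, 5, -4, 0, 0; 0, 0, 0, 0, 6, -5, 0;
      0, 0, 0, 0, 0, 7, -6; 0, 0, 0, 0, 0, 0, 8]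
    (by decide) (by decide +kernel) (by decide +kernel) (by decide +kernel) (by decide +kernel)

theorem carP : Car (cm 7 c52) ![1, 1, 1, 1, 1, 1, 1] :=
  car_of 60 ![30, 10, 5, 3, 2, 30, 10]
    !![2, -1, 0, 0, 0, 0, 0; 0, 3, -2, 0, 0, 0, 0; 0, 0, 4, -3, 0, 0, 0; 0, 0, 0, 5, -4, 0, 0; 0, 0, 0, 0, 6, 0, 0;
      0, 0, 0, 0, 0, 2, -1; 0, 0, 0, 0, 0, 0, 3]
    (by decide) (by decide +kernel) (by decide +kernel) (by decide +kernel) (by decide +kernel)

theorem perm_eq {π σ : Equiv.Perm (Fin 7)} (e : ∀ i, ![π 0, π 1, π 2, π 3, π 4, π 5, π 6] i = σ i) : π = σ := by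
  ext i
  fin_cases i
  exacts [congrArg _ (e 0), congrArg _ (e 1), congrArg _ (e 2), congrArg _ (e 3), congrArg _ (e 4), congrArg _ (e 5), congrArg _ (e 6)]

/-- the flip of `A₇` -/
def s7 : Equiv.Perm (Fin 7) := Equiv.swap 0 6 * Equiv.swap 1 5 * Equiv.swap 2 4

/-- the flip of `A₅` -/
def s5 : Equiv.Perm (Fin 7) := Equiv.swap 0 4 * Equiv.swap 1 3

/-- the flip of `A₂` -/
def s2 : Equiv.Perm (Fin 7) := Equiv.swap 5 6

theorem autA (π : Equiv.Perm (Fin 7)) (h : ∀ i j, cA (π i) (π j) = cA i j) : π = 1 ∨ π = s7 := by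
  have k : ∀ a b : Fin 7, cA a b = -1 → ∀ c : Fin 7, cA b c = -1 → cA a c = 0 → ∀ d : Fin 7, cA c d = -1 → cA b d = 0 →
      ∀ e : Fin 7, cA d e = -1 → cA c e = 0 → ∀ f : Fin 7, cA e f = -1 → cA d f = 0 → ∀ g : Fin 7, cA f g = -1 → cA e g = 0 →
      (∀ i, ![a, b, c, d, e, f, g] i = (1 : Equiv.Perm (Fin 7)) i) ∨ ∀ i, ![a, b, c, d, e, f, g] i = s7 i := by decide +kernel
  exact (k _ _ (h 0 1) _ (h 1 2) (h 0 2) _ (h 2 3) (h 1 3) _ (h 3 4) (h 2 4) _ (h 4 5) (h 3 5) _ (h 5 6) (h 4 6)).imp perm_eq perm_eq

theorem autP (π : Equiv.Perm (Fin 7)) (h : ∀ i j, c52 (π i) (π j) = c52 i j) : π = 1 ∨ π = s5 ∨ π = s2 ∨ π = s5 * s2 := by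
  have k : ∀ a b : Fin 7, c52 a b = -1 → ∀ c : Fin 7, c52 b c = -1 → c52 a c = 0 → ∀ d : Fin 7, c52 c d = -1 → c52 b d = 0 →
      ∀ e : Fin 7, c52 d e = -1 → c52 c e = 0 → ∀ f g : Fin 7, c52 f g = -1 → c52 b f = 0 → c52 d f = 0 →
      (∀ i, ![a, b, c, d, e, f, g] i = (1 : Equiv.Perm (Fin 7)) i) ∨ (∀ i, ![a, b, c, d, e, f, g] i = s5 i) ∨
        (∀ i, ![a, b, c, d, e, f, g] i = s2 i) ∨ ∀ i, ![a, b, c, d, e, f, g] i = (s5 * s2) i := by decide +kernel
  exact (k _ _ (h 0 1) _ (h 1 2) (h 0 2) _ (h 2 3) (h 1 3) _ (h 3 4) (h 2 4) _ _ (h 5 6) (h 1 5) (h 3 5)).imp perm_eq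
    (Or.imp perm_eq (Or.imp perm_eq perm_eq))

theorem osA : Os (cm 7 cA) := fun π h => by
  rcases autA π h with rfl | rfl
  · exact one_of (T := tA0) basA0 (by decide +kernel) h carA (fun i hi => Tb.rows_ok rowsA0 i (Nat.zero_le i) hi) clsA0
      (Or.inr ⟨rfl, rfl⟩) rzA0
  · exact one_of (T := tA1) basA1 (by decide +kernel) h carA (fun i hi => Tb.rows_ok rowsA1 i (Nat.zero_le i) hi) clsA1
      (Or.inl rfl) rzA1

theorem osP : Os (cm 7 c52) := fun π h => by
  rcases autP π h with rfl | rfl | rfl | rfl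
  · exact one_of (T := tP0) basP0 (by decide +kernel) h carP (fun i hi => Tb.rows_ok rowsP0 i (Nat.zero_le i) hi) clsP0
      (Or.inr ⟨rfl, rfl⟩) rzP0
  · exact one_of (T := tP1) basP1 (by decide +kernel) h carP (fun i hi => Tb.rows_ok rowsP1 i (Nat.zero_le i) hi) clsP1
      (Or.inl rfl) rzP1
  · exact one_of (T := tP2) basP2 (by decide +kernel) h carP (fun i hi => Tb.rows_ok rowsP2 i (Nat.zero_le i) hi) clsP2
      (Or.inl rfl) rzP2
  · exact one_of (T := tP3) basP3 (by decide +kernel) h carP (fun i hi => Tb.rows_ok rowsP3 i (Nat.zero_le i) hi) clsP3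
      (Or.inl rfl) rzP3

end TA

/-- **[TA]** -/
theorem boxTA : BoxTA := ⟨TA.osA, TA.osP⟩

end Cfsg.Agent.OM.On.F7
end

private theorem dce_4353eca7dbcd : _root_.True := by
  try have : _root_.True := by simp only [_root_.Cfsg.Agent.OM.Cu.Ext.KS.congr_simp]
  try have : _root_.True := by simp only [_root_.Cfsg.Agent.OM.On.F7.cf.eq_1]
  try have : _root_.True := by simp only [_root_.Cfsg.Agent.OM.Cu.Zt.eq_1]
  try have : _root_.True := by simp only [_root_.Cfsg.Agent.OM.On.F7.cnt.eq_1]
  exact _root_.True.intro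
end

-- part: OM/On/F7/Al0
section
prune_inst 0x7f00000000000000000000000000000000000000000000000000000000000000000000000000000000000000000000000000000000000000000000000000000000000000000000000000000000000000003fffffffffffffffffffffffffffbeffbdfbfeffff
set_option linter.all false
open scoped Cfsg.Agent.FastGrp

-- part: OM/On/F7/Lab
section
/-!
# OM/On/F7 : the central element is active (helper63)
-/

set_option autoImplicit false
set_option linter.unusedSectionVars false

namespace Cfsg.Agent.OM.On.F7

open Cfsg Matrix Cfsg.Agent.DL Cfsg.Agent.DL.PP Cfsg.Agent.KZ.Lie Cfsg.Agent.HZ.L Cfsg.Agent.BZ.TA Cfsg.Agent.OM.Cu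
  Cfsg.Agent.OM.Cu.Gl

theorem rs7 : Rs C7 ![1, 1, 1, 1, 1, 1, 1] := boxRs _ _ Eng.carE7

/-- the pure statement -/
theorem os_of (h7 : BoxT7) (hA : BoxTA) (h1 : BoxA1) {C : Mat (Fin 7)} {d : Fin 7 → ℤ} (H : Car C d)
    (h : C = C7 ∨ C = cm 7 cA ∨ C = cm 7 c52 ∨ Is1 C) : Os C := by
  rcases h with rfl | rfl | rfl | h
  exacts [h7, hA.1, hA.2, h1 C d H h]

variable {p : ℕ} [Fact p.Prime] {k : Type} [Field k] [CharP k p] [IsAlgClosed k] {Y : Type} [Group Y] {N : Type}
  [Fintype N] [DecidableEq N] {ρ : Y →* GL N k} {F : MulAut Y} {G : Subgroup Y} (D : Datum p ρ F G) [Fintype ↥(GF F G)]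

/-- **[Lab]** -/
theorem boxLab_of (h7 : BoxT7) (hA : BoxTA) (h1 : BoxA1) (hU : BoxUp) (hT : BoxTyp) : BoxLab D := by
  intro j B h P hP f χ hχ w c hw hi ε hε hm
  classical
  have := Fintype.ofFinite D.W
  obtain ⟨n, hn, hc⟩ := hw.fo
  have hn0 : n ≠ 0 := fun e => hn (e ▸ dvd_zero p)
  obtain ⟨τ, hτ⟩ := exists_tau hn0 hc P
  have t1 := tr_sub hP hτ
  obtain ⟨C, d, P', hC, hP', hty⟩ := hT n τ (Nat.pos_of_ne_zero hn0) fun lam hl => rs7.top lam fun a ha => by
    obtain ⟨b, hb, -, b2⟩ := hP.up a ha
    rw [← b2, ← dotProduct_mulVec]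
    refine hi _ (fun b hb => ?_) b hb
    obtain ⟨a, ha, -, a2⟩ := t1.dn b hb
    rw [dotProduct_mulVec, a2, hl a ha]
  have t2 := _root_.Cfsg.Agent.OM.Cu.Gl.comp t1 hP'
  have e2 : ∀ A : Mat D.R, ε • ε • A = A := fun A => by rcases hε with rfl | rfl <;> simp
  have n0 : Nm (ε • (D.Wm w * B)) (X.Zc (rts D) c) := by
    rcases hε with rfl | rfl
    · rw [one_smul]
      exact nm_Zc h hw.fx
    · rw [neg_one_smul]
      exact Nm.neg (fun a ha => E6.tr_neg hC t2 ha) (nm_Zc h hw.fx)
  have co : ∀ A, Co (X.Zc (rts D) c) (ε • (D.Wm w * B)) A → Co (X.Zc (rts D) c) (D.Wm w * B) (ε • A) := fun A ⟨u, hu, e⟩ =>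
    ⟨u, hu, by rw [e, mul_smul_comm, e2]⟩
  let g : Mat D.R → ℂ := Function.extend (fun w => D.Wm w * B) (fun u => classInner χ (RW f u c)) 0
  have hg : ∀ u, g (D.Wm u * B) = classInner χ (RW f u c) := (inj_WB h).extend_apply _ 0
  have bad : ∀ A x, ε • A = D.Wm x * B → Bad (X.Zc (rts D) c) 2 A → classInner χ (RW f x c) = 0 := fun A x e ⟨μ, k1, k2⟩ => by
    by_contra k3
    refine hm x k3 ?_
    obtain rfl := k1.eq_neg_one_of_two_right
    rw [← e]
    rcases hε with rfl | rfl
    · simpa using Eig.mono k2 fun _ h => h.1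
    · simpa using Eig.neg (Eig.mono k2 fun _ h => h.1)
  by_contra h0
  refine hw ((hg w).symm.trans ((congrArg g (e2 _)).symm.trans (hU C d _ _ _ hC t2 n0 (os_of h7 hA h1 hC hty) (fun A => g (ε • A))
    ⟨fun u hu A hA => ?_, fun A hA hb => ?_, fun A hA hb σ _ => ?_⟩ (fun A hA e => ?_) _ (Co.refl _ _))))
  · obtain ⟨v, hv, rfl⟩ := ww_Zc hu
    obtain ⟨x, hx, e1⟩ := co_Zc hw.fx ((co A hA).mul_right (nm_Zc h hw.fx) hu)
    obtain ⟨z, -, e3⟩ := co_Zc hw.fx (co A hA)
    rw [← mul_smul_comm, ← smul_mul_assoc, e1, e3, ← mul_assoc, ← D.Wm_mul, hg, hg]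
    rw [e3] at e1
    exact congrArg _ (RW_conj f (h.tc_iff.2 (by rw [← e1, D.Wm_mul, mul_assoc, mul_assoc, mul_assoc])) hv).symm
  · obtain ⟨x, -, e⟩ := co_Zc hw.fx (co A hA)
    rw [e, hg, bad A x e hb]
  · obtain ⟨x, -, e⟩ := co_Zc hw.fx (co A hA)
    obtain ⟨κ, hκ⟩ := Cas.boxCas f h.qs χ hχ c
    have e1 : rfm '' Zt (X.Zc (rts D) c) 1 σ = D.Wm '' Cas.Rf D c := by
      ext r
      constructor
      · rintro ⟨_, ⟨⟨⟨b, hb, rfl⟩, b1⟩, -⟩, rfl⟩
        exact ⟨_, ⟨b, hb, rfl, b1⟩, (rfm_eq hb).symm⟩
      · rintro ⟨_, ⟨b, hb, rfl, b1⟩, rfl⟩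
        exact ⟨_, ⟨⟨rt_mem hb, b1⟩, one_dvd _⟩, rfm_eq hb⟩
    rw [e1, finsum_mem_image D.Wm_injective.injOn, ← mul_zero κ, ← bad A x e hb, ← hκ, Cas.cas, finsum_mem_def,
      finsum_eq_sum_of_fintype]
    refine Finset.sum_congr rfl fun u _ => ?_
    rw [Set.indicator_apply, ← mul_smul_comm, e, ← mul_assoc, ← D.Wm_mul, hg]
  · obtain ⟨x, -, e1⟩ := co_Zc hw.fx (co A hA)
    rw [e1, hg]
    by_contra k
    refine h0 ⟨x, k, ?_⟩
    have k1 : (A * P - P) * P' = 0 := ext_of_mulVec_single fun i => by
      obtain ⟨b, hb, b1, -⟩ := t2.up _ ((boxRs C d hC).mem i)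
      rw [Matrix.sub_mul, sub_mulVec, Matrix.mul_assoc, ← mulVec_mulVec, zero_mulVec]
      exact sub_eq_zero.2 ((congrArg _ b1).trans ((e b hb).trans b1.symm))
    have k2 : P'.det ≠ 0 := fun e => let ⟨v, v1, v2⟩ := exists_mulVec_eq_zero_iff.2 e; v1 (hP'.inj v v2)
    have k3 := congrArg (· * adjugate P') k1
    simp only [Matrix.mul_assoc, mul_adjugate, Matrix.zero_mul, Matrix.mul_smul, Matrix.mul_one] at k3
    rw [← e1, Matrix.smul_mul, sub_eq_zero.1 ((smul_eq_zero.1 k3).resolve_left k2)]

end Cfsg.Agent.OM.On.F7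
end

-- part: OM/On/F7/Main
section
/-!
# OM/On/F7 : `BoxE7` from the boxes (helper63)
-/

set_option autoImplicit false
set_option linter.unusedSectionVars false

namespace Cfsg.Agent.OM.On.F7

open Cfsg Matrix Polynomial Cfsg.Agent.DL Cfsg.Agent.DL.PP Cfsg.Agent.KZ.Lie Cfsg.Agent.HZ.L Cfsg.Agent.BZ.TA Cfsg.Agent.OM.Cu
open Cfsg.Agent.OM.Cas.Eig (cp cp_eval)

theorem eig_of {R : Type} [Fintype R] [DecidableEq R] {Ψ : RS R} {P : Matrix R (Fin 7) ℤ} (hP : Cu.Tr P (Rc C7) Ψ) {A : Mat R}
    {U : Mat (Fin 7)} (h : A * P = P * U) (ε : ℤ) (e : (U - ε • 1).det = 0) : Eig Ψ A ε := by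
  obtain ⟨v, v1, v2⟩ := exists_mulVec_eq_zero_iff.2 e
  rw [sub_mulVec, smul_mulVec, one_mulVec, sub_eq_zero] at v2
  refine hP.eig_up h ⟨fun i => v i, _root_.funext fun i => ?_, by_contra fun k => v1 (_root_.funext fun i => ?_)⟩
  · have := congrArg (Int.cast : ℤ → ℂ) (congrFun v2 i)
    simpa only [mulVec, dotProduct, _root_.Matrix.map_apply, _root_.Pi.smul_apply, _root_.smul_eq_mul, _root_.Int.cast_sum, _root_.Int.cast_mul, _root_.Int.zsmul_eq_mul] using this
  · exact Int.cast_eq_zero.1 (congrFun (rs7.topC (fun i => (v i : ℂ)) fun a ha => by_contra fun k' => k ⟨a, ha, k'⟩) i)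

variable {p : ℕ} [Fact p.Prime] {k : Type} [Field k] [CharP k p] [IsAlgClosed k] {Y : Type} [Group Y] {N : Type}
  [Fintype N] [DecidableEq N] {ρ : Y →* GL N k} {F : MulAut Y} {G : Subgroup Y} (D : Datum p ρ F G) [Fintype ↥(GF F G)]

variable {D} {j : ℕ} {B : Mat D.R} {P : Matrix D.R (Fin 7) ℤ} {f : Fr D} {χ : ↥(GF F G) → ℂ}

theorem eig_eps (hP : Cu.Tr P (Rc C7) (rts D)) {A : Mat D.R} {ε : ℤ} (e : A * P = ε • P) : Eig (rts D) A ε :=
  eig_of hP (U := ε • 1) (by rw [e, Matrix.mul_smul, Matrix.mul_one]) ε (by rw [sub_self, det_zero])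

theorem cp_ne {R : Type} [Fintype R] [DecidableEq R] (A : Mat R) : _root_.Cfsg.Agent.OM.Cas.Eig.cp A ≠ 0 := fun e => by
  have h9 := cp_eval A 0
  rw [e, eval_zero, zero_smul, zero_sub, det_neg, det_one, mul_one] at h9
  exact pow_ne_zero _ (neg_ne_zero.2 one_ne_zero) h9.symm

theorem mul_ax {a b c z : ℤ[X]} (d : ℤ[X]) (h : a * b = c * z) : a * (d * b) = d * c * z := by
  rw [mul_left_comm, h, mul_assoc]

theorem pair (yt : BoxYt D) (eg : BoxEg D) (fac : BoxFac D) (fin : BoxFin) (h : St D j B) (hP : Cu.Tr P (Rc C7) (rts D))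
    (hχ : IsIrrCharacter _ χ) (hl : Lk B f χ) {u v : D.W} {c c' : Lbl D} (h1 : Has f χ u c) (h2 : D.Wm u * B * P = (1 : ℤ) • P)
    (h3 : Has f χ v c') (h4 : D.Wm v * B * P = (-1 : ℤ) • P) : Cj (rts D) c c' := by
  have := Fintype.ofFinite D.W
  obtain ⟨U, h5, h6⟩ := fac j B h P hP u (by rw [h2, one_smul])
  obtain ⟨m, a, b, h7, h8⟩ := eg j B h f χ hχ
  obtain ⟨n, n1, n2⟩ := h.fin
  have k1 : U u = 1 := hP.cancel (by rw [← (h6 u).1, h2, one_smul, Matrix.mul_one])
  have k2 : U v = -1 := hP.cancel (by rw [← (h6 v).1, h4, neg_one_smul, Matrix.mul_neg, Matrix.mul_one])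
  have k3 : C B.det * _root_.Cfsg.Agent.OM.Cas.Eig.cp (D.Wm u * B) ≠ 0 :=
    mul_ne_zero (C_ne_zero.2 ((isUnit_iff_isUnit_det B).1 (IsUnit.of_pow_eq_one n2 n1.ne')).ne_zero) (cp_ne _)
  have k4 := fun w => mul_ax (C B.det) (h6 w).2.2.1
  have k5 : sgZ D u * sgZ D u = 1 := by rcases sgZ_sign D u with e | e <;> simp [e]
  have k6 : m u ≠ 0 := fun e => yt j B h P hP f χ hl u c h1 1 (.inl rfl) h2 (by rw [h7, e, Int.cast_zero])
  have k7 : m v ≠ 0 := fun e => yt j B h P hP f χ hl v c' h3 (-1) (.inr rfl) h4 (by rw [h7, e, Int.cast_zero])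
  by_contra h0
  refine fin U (fun w => C B.det * _root_.Cfsg.Agent.OM.Cas.Eig.cp (D.Wm w * B)) _ (fun w => sgZ D w) m _ u v a b h5 (fun w => (h6 w).2.1) k1 k2 k3 k4 k5
    (fun w => (h6 w).2.2.2) k6 k7 (fun x hx => or_iff_not_and_not.2 fun e => h0 ?_) h8
  obtain ⟨z, hz⟩ : ∃ z, Has f χ x z := by_contra fun e => hx (Int.cast_eq_zero.1 ((h7 x).symm.trans
    (finsum_eq_zero_of_forall_eq_zero fun z => by_contra fun e' => e ⟨z, e'⟩)))
  exact (hl u c x z _ h1 hz (eig_eps hP h2) (eig_of hP (h6 x).1 1 (by rw [one_smul, not_not.1 e.1]))).trans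
    (hl x z v c' _ hz h3 (eig_of hP (h6 x).1 (-1) (by rw [neg_one_smul, sub_neg_eq_add, not_not.1 e.2])) (eig_eps hP h4))

variable (D) in
/-- **`E₇`** -/
theorem boxE7_of (lab : BoxLab D) (yt : BoxYt D) (eg : BoxEg D) (fac : BoxFac D) (fin : BoxFin) : BoxE7 D := by
  intro j B h _ he f χ hχ hl _ hn w c w' c' hw hw' _
  obtain ⟨P, hP⟩ := E6.tr7 D he
  have k1 : ∀ w c, Has f χ w c → X.Miss B f χ c 1 → X.Miss B f χ c (-1) → False := fun w c hw a b => by
    obtain ⟨u, h1, h2⟩ := lab j B h P hP f χ hχ w c hw (hn w c hw) 1 (.inl rfl) (by simpa using b)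
    exact a u h1 (by simpa using eig_eps hP h2)
  have k2 : ∀ w c w' c', Has f χ w c → Has f χ w' c' → X.Miss B f χ c (-1) → X.Miss B f χ c' 1 → Cj (rts D) c c' :=
    fun w c w' c' hw hw' a b => by
    obtain ⟨u, h1, h2⟩ := lab j B h P hP f χ hχ w c hw (hn w c hw) 1 (.inl rfl) (by simpa using a)
    obtain ⟨v, h3, h4⟩ := lab j B h P hP f χ hχ w' c' hw' (hn w' c' hw') (-1) (.inr rfl) (by simpa using b)
    exact pair yt eg fac fin h hP hχ hl h1 h2 h3 h4
  by_contra h0
  rcases ClA.miss_or1 hl h0 1 with a | a <;> rcases ClA.miss_or1 hl h0 (-1) with b | b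
  exacts [k1 w c hw a b, h0 (cj_symm (k2 w' c' w c hw' hw b a)), h0 (k2 w c w' c' hw hw' b a), k1 w' c' hw' a b]

end Cfsg.Agent.OM.On.F7
end

-- part: OM/On/F7/A1
section
/-!
# OM/On/F7 : a component `A₁` (helper60)

`boxA1 : BoxA1`.
-/

set_option autoImplicit false
set_option linter.unusedSectionVars false

namespace Cfsg.Agent.OM.On.F7

open Cfsg Matrix Cfsg.Agent.HZ.L Cfsg.Agent.BZ.TA Cfsg.Agent.OM.Cu

namespace A1x

variable {I : Type} [Fintype I] [DecidableEq I] {C : Mat I} {i : I}

theorem pm_e (h2 : C i i = 2) (h : ∀ j, j ≠ i → C i j = 0) {w : Mat I} (hw : w ∈ Wc C) :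
    ∃ ε : ℤˣ, w *ᵥ Pi.single i 1 = (ε : ℤ) • Pi.single i 1 := by
  induction hw using Submonoid.closure_induction with
  | mem x hx =>
    obtain ⟨_, ⟨j, rfl⟩, rfl⟩ := hx
    rw [rfm_mulVec, dotProduct_single_one]
    by_cases e : j = i
    · subst e
      exact ⟨-1, by rw [show (sp C j).1 j = 2 from h2, show (sp C j).2 = Pi.single j 1 from rfl, Units.val_neg, Units.val_one]; module⟩
    · exact ⟨1, by rw [show (sp C j).1 i = 0 from h j e, zero_smul, sub_zero, Units.val_one, one_smul]⟩
  | one => exact ⟨1, by rw [one_mulVec, Units.val_one, one_smul]⟩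
  | mul x y _ _ hx hy =>
    obtain ⟨a, ha⟩ := hx
    obtain ⟨b, hb⟩ := hy
    exact ⟨b * a, by rw [← mulVec_mulVec, hb, mulVec_smul, ha, smul_smul, Units.val_mul]⟩

theorem bad (h2 : C i i = 2) (hi : sp C i ∈ Rc C) {A : Mat I} (h : A *ᵥ Pi.single i 1 = -Pi.single i 1) : Bad (Rc C) 2 A := by
  refine ⟨-1, IsPrimitiveRoot.neg_one 0 (by norm_num), Pi.single i 1, funext fun j => ?_, _, hi, ?_⟩
  · have := congrFun h j
    rw [mulVec_single_one] at this ⊢
    show ((A j i : ℤ) : ℂ) = _
    rw [show A j i = _ from this]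
    by_cases e : j = i <;> simp [e]
  · rw [ev, dotProduct_single_one, show (sp C i).1 i = 2 from h2]
    norm_num

end A1x

open A1x

/-- **[A1]** -/
theorem boxA1 : BoxA1 := by
  rintro I _ _ C d hC ⟨i, h1, h2⟩ π hπ f hf - A hA
  have H := boxRs C d hC
  have k0 : π i = i := by_contra fun e => by
    obtain ⟨j, j1, j2⟩ := h2 _ e
    obtain ⟨j, rfl⟩ := π.surjective j
    exact j2 ((hπ i j).trans (h1 j fun e => j1 (e ▸ rfl)))
  obtain ⟨ε, k1⟩ : ∃ ε : ℤˣ, A *ᵥ Pi.single i 1 = (ε : ℤ) • Pi.single i 1 := by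
    obtain ⟨w, hw, rfl⟩ := hA
    rw [← mulVec_mulVec, pm_single, k0]
    exact pm_e (hC.diag i) h1 (H.ww ▸ hw)
  rcases Int.units_eq_one_or ε with rfl | rfl
  swap
  · exact hf.bad A hA (bad (hC.diag i) (H.mem i) (by rw [k1, Units.val_neg, Units.val_one, neg_one_smul]))
  have k2 : (rfm (sp C i) * A) *ᵥ Pi.single i 1 = -Pi.single i 1 := by
    rw [← mulVec_mulVec, k1, Units.val_one, one_smul, rfm_mulVec, dotProduct_single_one, show (sp C i).1 i = 2 from hC.diag i,
      show (sp C i).2 = Pi.single i 1 from rfl]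
    module
  have k3 : f (rfm (sp C i) * (rfm (sp C i) * A)) = f A := by rw [← mul_assoc, rfm_sq (H.two _ (H.mem i)), one_mul]
  refine hf.kill H.fin (hA.rf (H.mem i)) (bad (hC.diag i) (H.mem i) k2) (τ := 0) (fun _ _ => one_dvd _) (fun a ha _ => ?_)
    (H.mem i) (one_dvd _) k3
  obtain ⟨w, hw, j, a1, a2⟩ := id ha
  obtain ⟨η, k4⟩ := pm_e (hC.diag i) h1 hw
  by_cases e : j = i
  · subst e
    have k5 : a.2 = (η : ℤ) • Pi.single j 1 := a1.symm.trans k4
    refine Or.inr (Eq.trans ?_ k3)
    rcases Int.units_eq_one_or η with rfl | rfl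
    · rw [H.ext a ha _ (H.mem j) (k5.trans (one_smul _ _))]
    · rw [H.ext a ha _ (H.neg _ (H.mem j)) (k5.trans (neg_one_smul _ _)), rfm_neg]
  · refine Or.inl (hf.bad _ ((hA.rf (H.mem i)).rf ha) (bad (hC.diag i) (H.mem i) ?_))
    have k5 : a.1 ⬝ᵥ (w *ᵥ Pi.single i 1) = 0 := by
      rw [dotProduct_mulVec, a2, dotProduct_single_one]
      exact h1 j e
    rw [k4, dotProduct_smul, smul_eq_zero, or_iff_right η.ne_zero] at k5
    rw [← mulVec_mulVec, k2, rfm_mulVec, dotProduct_neg, k5, neg_zero, zero_smul, sub_zero]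

end Cfsg.Agent.OM.On.F7
end

-- part: OM/On/F7/Up
section
/-!
# OM/On/F7 : transport (helper86)
-/

set_option autoImplicit false
set_option linter.unusedSectionVars false
set_option maxHeartbeats 400000

namespace Cfsg.Agent.OM.On.F7

open Cfsg Matrix Cfsg.Agent.HZ.L Cfsg.Agent.BZ.TA Cfsg.Agent.OM.Cu Cfsg.Agent.OM.Cu.TrL

variable {R I : Type} [Fintype R] [DecidableEq R] [Fintype I] [DecidableEq I] {P : Matrix R I ℤ} {Ψ : RS R} {B : Mat I}
  {A' B' : Mat R} {C : Mat I} {d : I → ℤ}

theorem One.of_co (h2 : ∀ a ∈ Ψ, a.1 ⬝ᵥ a.2 = 2) (h : One Ψ B') (hA : Co Ψ B' A') : One Ψ A' := fun f Y h0 X hX =>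
  h f (Y.mono (hA.symm h2)) (fun Z hZ => h0 Z ((hA.symm h2).trans hZ)) X (hA.trans hX)

theorem One.up (T : Cu.Tr P (Rc C) Ψ) (H : Rs C d) (h : B' * P = P * B) (hB : Nm B' Ψ) (hc : One (Rc C) B) : One Ψ B' :=
  fun f Y h0 A' hA => by
  obtain ⟨A, h1, h2⟩ := T.co_dn h hA
  rw [← T.up_eq H h hB hA h2]
  refine hc (fun X => f (TrL.up P Ψ B' X)) ⟨fun u hu X hX => ?_, fun X hX hb => ?_, fun X hX hb τ _ => ?_⟩
    (fun X hX e => ?_) A h1
  all_goals obtain ⟨X', h3, h4⟩ := T.co_up h hX
  · obtain ⟨u', h5, h6⟩ := T.ww_up hu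
    rw [T.up_eq H h hB (co_left h5 h3) (Tr.mul h6 h4), T.up_eq H h hB (co_right hB h5 h3) (Tr.mul h4 h6), Y.cj u' h5 X' h3]
  · rw [T.up_eq H h hB h3 h4]
    exact Y.bad X' h3 (hb.imp fun _ hb => ⟨hb.1, T.eig_up h4 hb.2⟩)
  · rw [← T.sum_eq H (l := 1) (τ' := 0) (σ := -τ) (by simp) (F' := fun ρ => f (ρ * X')) fun ρ _ ρ' h6 e => by
      rw [T.up_eq H h hB (co_left h6 h3) (Tr.mul e h4)]]
    exact Y.rel X' h3 (hb.imp fun _ hb => ⟨hb.1, T.eig_up h4 hb.2⟩) _ fun _ _ => one_dvd _
  · rw [T.up_eq H h hB h3 h4]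
    refine h0 X' h3 fun b hb => ?_
    obtain ⟨a, ha, h5, -⟩ := T.dn b hb
    rw [← h5, mulVec_mulVec, h4, ← mulVec_mulVec, e a ha]

/-- **[Up]** -/
theorem boxUp : BoxUp := fun C d _ _ _ hC T hB hO => by
  have H := boxRs C d hC
  obtain ⟨B, h⟩ := Gl.exists_B H T hB
  obtain ⟨w, hw, π, h1, rfl⟩ := boxCh boxRs C d B hC (T.nm_dn h hB)
  exact One.up T H h hB ((hO π h1).of_co H.two ⟨w, H.ww ▸ hw, rfl⟩)

end Cfsg.Agent.OM.On.F7
end

-- part: OM/On/F7/Typ
section
/-!
# OM/On/F7 : the types of the isolated labels of `E₇` (helper46)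
-/

set_option autoImplicit false
set_option linter.unusedSectionVars false
set_option maxRecDepth 100000

namespace Cfsg.Agent.OM.On.F7

open Cfsg Matrix Cfsg.Agent.HZ.L Cfsg.Agent.BZ.TA Cfsg.Agent.OM.Cu Cfsg.Agent.OM.Cu.BaseA

namespace Typ

theorem car : Car C7 fun _ => 1 := (by decide : (![1, 1, 1, 1, 1, 1, 1] : Fin 7 → ℤ) = fun _ => 1) ▸ Eng.carE7

theorem rs : Rs C7 fun _ => 1 := boxRs _ _ car

/-- the highest root -/
def th : Vec (Fin 7) := ![2, 3, 4, 3, 2, 1, 2]

/-- twice the inverse of the Cartan matrix -/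
def A7 : Mat (Fin 7) := !![4, 6, 8, 6, 4, 2, 4; 6, 12, 16, 12, 8, 4, 8; 8, 16, 24, 18, 12, 6, 12; 6, 12, 18, 15, 10, 5, 9;
  4, 8, 12, 10, 8, 4, 6; 2, 4, 6, 5, 4, 3, 3; 4, 8, 12, 9, 6, 3, 7]

/-- the order of the nodes -/
def od : Fin 7 → Fin 7 → Fin 7 := ![![0, 1, 2, 3, 4, 5, 6], ![6, 2, 3, 4, 5, 1, 0], ![0, 1, 2, 3, 4, 5, 6], ![3, 0, 1, 2, 6, 4, 5],
  ![0, 1, 2, 3, 4, 5, 6], ![4, 3, 2, 1, 0, 5, 6], ![6, 0, 1, 2, 3, 4, 5]]

/-- the simple roots, one of them is replaced by the lowest root -/
def bv (i m : Fin 7) : Vec (Fin 7) := fun j => if m = i then -th j else if j = m then 1 else 0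

/-- the pairs -/
def sb (i m : Fin 7) : Vec (Fin 7) × Vec (Fin 7) := (bv i m ᵥ* C7, bv i m)

theorem t1 : C7 * A7 = (2 : ℤ) • (1 : Mat (Fin 7)) ∧ (∀ j, A7 j ᵥ* C7 = Pi.single j 2) ∧
    (∀ j, 0 < th j ∧ 0 < A7 j j ∧ A7 j j < (th j + 1) ^ 2) ∧ th 5 = 1 ∧ (∀ i, Function.Bijective (od i)) ∧
    ([0, 1, 2, 3, 4, 5, 6, 2, 1, 0, 3, 2, 1, 4, 3, 2].foldr (fun i v => v - (v ᵥ* C7) i • (Pi.single i 1 : Vec (Fin 7)))
      (Pi.single 6 1) = th) := by decide +kernel

/-- the Cartan integers -/
def cf (i k l : Fin 7) : ℤ := (bv i l ᵥ* C7) ⬝ᵥ bv i k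

theorem t2 : ∀ i, (∀ k l, k ≠ l → cf i k l ≤ 0) ∧ ∀ k l, cf i k l = cf i l k := by decide +kernel

theorem t4 : ∀ i, (∀ k l, cf i (od i k) (od i l) = cT 2 7 k l) ∨ (∀ k l, cf i (od i k) (od i l) = cA k l) ∨
    (∀ k l, cf i (od i k) (od i l) = c52 k l) ∨
      ∃ m, (∀ j, j ≠ m → cf i (od i m) (od i j) = 0) ∧ ∀ k, k ≠ m → ∃ j, j ≠ k ∧ cf i (od i k) (od i j) ≠ 0 := by decide +kernel

theorem t3 (i : Fin 7) : Cf (sb i ∘ od i) = C7 ∨ Cf (sb i ∘ od i) = cm 7 cA ∨ Cf (sb i ∘ od i) = cm 7 c52 ∨ Is1 (Cf (sb i ∘ od i)) :=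
  (t4 i).imp Matrix.ext (Or.imp Matrix.ext (Or.imp Matrix.ext id))

variable {a : Vec (Fin 7) × Vec (Fin 7)} {n : ℕ} {t β : Vec (Fin 7)}

theorem fm_eq (β γ : Vec (Fin 7)) : fm C7 (fun _ => 1) β γ = (β ᵥ* C7) ⬝ᵥ γ := by
  rw [rs.comm, dotProduct_comm]
  exact Finset.sum_congr rfl fun i _ => by rw [mul_one]

theorem fm_two (ha : a ∈ Rc C7) : fm C7 (fun _ => 1) a.2 a.2 = 2 := by
  obtain ⟨w, hw, i, h1, -⟩ := ha
  rw [← h1, rs.iso w hw, RsP.fm_sp, RsP.sp_two car, one_mul]

theorem fst_eq (ha : a ∈ Rc C7) : a.1 = a.2 ᵥ* C7 := by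
  obtain ⟨m, -, h⟩ := rs.len a ha
  have h1 := h a.2
  rw [fm_two ha, rs.two a ha] at h1
  exact dotProduct_eq_iff.1 fun v => by rw [← fm_eq, h, show m = 1 by omega, one_mul]

theorem bound (ha : a ∈ Rc C7) (j : Fin 7) : -th j ≤ a.2 j ∧ a.2 j ≤ th j := by
  have h0 : ∀ v, fm C7 (fun _ => 1) v (A7 j) = 2 * v j := fun v => by
    rw [rs.comm, fm_eq, t1.2.1, single_dotProduct]
  have h1 : 0 ≤ fm C7 (fun _ => 1) (A7 j j • a.2 - a.2 j • A7 j) (A7 j j • a.2 - a.2 j • A7 j) := not_lt.1 fun h => by
    rw [RsP.fm_zero car h.le, fm_eq, dotProduct_zero] at h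
    exact lt_irrefl _ h
  rw [RsP.fm_sub, RsP.fm_sub', RsP.fm_sub', RsP.fm_smul, RsP.fm_smul, RsP.fm_smul, RsP.fm_smul, RsP.fm_smul', RsP.fm_smul',
    RsP.fm_smul', RsP.fm_smul', rs.comm (A7 j) a.2, fm_two ha, h0, h0] at h1
  obtain ⟨h2, h3, h4⟩ := t1.2.2.1 j
  have h5 : a.2 j ^ 2 ≤ A7 j j := by nlinarith only [h1, h3]
  have h6 := abs_lt_of_sq_lt_sq' (h5.trans_lt h4) (by omega)
  omega

theorem th_mem : ∃ a ∈ Rc C7, a.2 = th := by
  rw [← t1.2.2.2.2.2]
  generalize ([0, 1, 2, 3, 4, 5, 6, 2, 1, 0, 3, 2, 1, 4, 3, 2] : List (Fin 7)) = w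
  induction w with
  | nil => exact ⟨_, rs.mem 6, rfl⟩
  | cons i w ih =>
    obtain ⟨a, ha, h⟩ := ih
    obtain ⟨c, hc, h1, -⟩ := rs.nm _ (RsP.s_mem i) a ha
    exact ⟨c, hc, by rw [← h1, RsP.rfm_mulVec, RsP.sp_dot, h]; rfl⟩

theorem sb_mem (i m : Fin 7) : sb i m ∈ Rc C7 := by
  have h : ∃ a ∈ Rc C7, a.2 = bv i m := by
    by_cases h : m = i
    · obtain ⟨a, ha, h1⟩ := th_mem
      exact ⟨_, rs.neg a ha, funext fun j => by rw [Prod.snd_neg, h1]; exact (if_pos h).symm⟩
    · exact ⟨_, rs.mem m, funext fun j => (Pi.single_apply m (1 : ℤ) j).trans (if_neg h).symm⟩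
  obtain ⟨a, ha, h1⟩ := h
  exact (Prod.ext ((fst_eq ha).trans (congrArg (· ᵥ* C7) h1)) h1 : a = sb i m) ▸ ha

theorem pf (i : Fin 7) (c : Vec (Fin 7)) (j : Fin 7) : (Pf (sb i) *ᵥ c) j = -th j * c i + if j = i then 0 else c j := by
  have h1 : ∀ m, m ≠ i → m ≠ j → bv i m j * c m = 0 := fun m h h' => by
    rw [show bv i m j = 0 from (if_neg h).trans (if_neg h'.symm), zero_mul]
  have h2 : bv i i j = -th j := if_pos rfl
  show ∑ m, bv i m j * c m = _
  split_ifs with h
  · subst h
    rw [Fintype.sum_eq_single j fun m hm => h1 m hm hm, h2, add_zero]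
  · rw [Fintype.sum_eq_add i j (Ne.symm h) fun m hm => h1 m hm.1 hm.2, h2, show bv i j j = 1 from (if_neg h).trans (if_pos rfl),
      one_mul]

theorem car_sb (i : Fin 7) : Car (Cf (sb i)) fun _ => 1 := by
  refine ⟨fun k => rs.two _ (sb_mem i k), (t2 i).1, fun _ => one_pos, fun k l => congrArg _ ((t2 i).2 k l), fun β hβ => ?_⟩
  refine (car.pos (Pf (sb i) *ᵥ β) fun h => hβ ?_).trans_eq ((fm_P (C := C7) (d := fun _ => 1) β _).trans ?_)
  · have h1 := (pf i β i).symm.trans (congrFun h i)
    rw [if_pos rfl, add_zero, Pi.zero_apply, mul_eq_zero, neg_eq_zero] at h1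
    have h2 := h1.resolve_left (t1.2.2.1 i).1.ne'
    refine funext fun j => by_contra fun h3 => h3 ?_
    have h4 := (pf i β j).symm.trans (congrFun h j)
    rwa [h2, mul_zero, zero_add, if_neg fun e : j = i => h3 (e ▸ h2)] at h4
  · exact Finset.sum_congr rfl fun j _ => by rw [fm_eq, vecMul_Cf, mul_one]; rfl

theorem cmb (i : Fin 7) (h0 : 0 ≤ β) (h1 : ∀ j, β j ≤ th j) (h : th i ∣ β i) : ∃ c, Pf (sb i) *ᵥ c = β ∧ (0 ≤ c ∨ c ≤ 0) := by
  rcases (show 0 ≤ β i from h0 i).eq_or_lt with h2 | h2
  · refine ⟨β, funext fun j => ?_, Or.inl h0⟩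
    rw [pf, ← h2, mul_zero, zero_add]
    split_ifs with e
    · exact e ▸ h2
    · rfl
  · have h3 := le_antisymm (h1 i) (Int.le_of_dvd h2 h)
    refine ⟨fun j => if j = i then -1 else β j - th j, funext fun j => ?_, Or.inr fun j => ?_⟩
    · rw [pf, if_pos rfl]
      split_ifs with e
      · rw [e, h3]
        ring
      · ring
    · show (if j = i then -1 else β j - th j) ≤ 0
      split_ifs
      · decide
      · exact sub_nonpos.2 (h1 j)

/-- the subsystem of a node -/
theorem node (i : Fin 7) (h : ∀ a ∈ Rc C7, (n : ℤ) ∣ t ⬝ᵥ a.2 ↔ th i ∣ a.2 i) :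
    ∃ (C : Mat (Fin 7)) (d : Fin 7 → ℤ) (P : Mat (Fin 7)), Car C d ∧ Cu.Tr P (Rc C) (Zt (Rc C7) n t) ∧
      (C = C7 ∨ C = cm 7 cA ∨ C = cm 7 c52 ∨ Is1 C) := by
  obtain ⟨m, C', d', P', H, T⟩ := boxBase boxRs C7 _ n t car
  have h1 : Car (Cf (sb i ∘ od i)) _ := car_sub (car_sb i) (Equiv.ofBijective _ (t1.2.2.2.2.1 i))
  refine ⟨_, _, _, h1, E6.tr_base H T h1 (fun k => ⟨sb_mem _ _, (h _ (sb_mem _ _)).2 ?_⟩) fun b hb => ?_, t3 i⟩
  · show th i ∣ if od i k = i then -th i else if i = od i k then 1 else 0
    split_ifs with e e'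
    · exact (dvd_refl _).neg_right
    · exact (e e'.symm).elim
    · exact dvd_zero _
  have h2 : ∀ c, Pf (sb i ∘ od i) *ᵥ (c ∘ od i) = Pf (sb i) *ᵥ c := fun c => funext fun j =>
    (t1.2.2.2.2.1 i).sum_comp fun m => bv i m j * c m
  have h3 := (h b hb.1).1 hb.2
  rcases rs.pn b hb.1 with h4 | h4
  · obtain ⟨c, h5, h6⟩ := cmb i h4 (fun j => (bound hb.1 j).2) h3
    exact ⟨c ∘ od i, (h2 c).trans h5, h6.imp (fun e k => e _) fun e k => e _⟩
  · obtain ⟨c, h5, h6⟩ := cmb (β := -b.2) i (neg_nonneg.2 h4) (fun j => neg_le.1 (bound hb.1 j).1) h3.neg_right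
    exact ⟨(-c) ∘ od i, by rw [h2, mulVec_neg, h5, neg_neg], h6.symm.imp (fun e k => neg_nonneg.2 (e _)) fun e k => neg_nonpos.2 (e _)⟩

theorem pos (h0 : ∀ i, 0 ≤ t i) (h1 : t ⬝ᵥ th ≤ n) (hβ : ∀ j, 0 ≤ β j ∧ β j ≤ th j) (h : (n : ℤ) ∣ t ⬝ᵥ β) :
    ∃ ε : ℤ, (ε = 0 ∨ t ⬝ᵥ th = n) ∧ ∀ k, t k ≠ 0 → β k = ε * th k := by
  have h2 : ∀ k ∈ (Finset.univ : Finset (Fin 7)), 0 ≤ t k * β k := fun k _ => mul_nonneg (h0 k) (hβ k).1
  have h3 : ∀ k ∈ (Finset.univ : Finset (Fin 7)), t k * β k ≤ t k * th k := fun k _ => mul_le_mul_of_nonneg_left (hβ k).2 (h0 k)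
  have h4 : t ⬝ᵥ β ≤ t ⬝ᵥ th := Finset.sum_le_sum h3
  rcases (show 0 ≤ t ⬝ᵥ β from Finset.sum_nonneg h2).eq_or_lt with h5 | h5
  · refine ⟨0, Or.inl rfl, fun k hk => ?_⟩
    rw [zero_mul]
    exact (mul_eq_zero.1 ((Finset.sum_eq_zero_iff_of_nonneg h2).1 h5.symm k (Finset.mem_univ k))).resolve_left hk
  · have h6 := Int.le_of_dvd h5 h
    refine ⟨1, Or.inr (le_antisymm h1 (h6.trans h4)), fun k hk => ?_⟩
    rw [one_mul]
    exact mul_left_cancel₀ hk ((Finset.sum_eq_sum_iff_of_le h3).1 (le_antisymm h4 (h1.trans h6)) k (Finset.mem_univ k))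

theorem key (h0 : ∀ i, 0 ≤ t i) (h1 : t ⬝ᵥ th ≤ n) (ha : a ∈ Zt (Rc C7) n t) :
    ∃ ε : ℤ, (ε = 0 ∨ t ⬝ᵥ th = n) ∧ ∀ k, t k ≠ 0 → a.2 k = ε * th k := by
  rcases rs.pn a ha.1 with h | h
  · exact pos h0 h1 (fun j => ⟨h j, (bound ha.1 j).2⟩) ha.2
  · obtain ⟨ε, h2, h3⟩ := pos (β := -a.2) h0 h1 (fun j => ⟨neg_nonneg.2 (h j), neg_le.1 (bound ha.1 j).1⟩)
      (by rw [dotProduct_neg]; exact ha.2.neg_right)
    exact ⟨-ε, h2.imp_left neg_eq_zero.2, fun k hk => by rw [neg_mul, ← h3 k hk]; exact (neg_neg _).symm⟩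

theorem zero {Z : RS (Fin 7)} (hZ : Z ⊆ Rc C7) (h : ∀ lam, Perp Z lam → lam = 0) {x : Vec (Fin 7)} (hx : ∀ a ∈ Z, a.2 ⬝ᵥ x = 0) :
    x = 0 := by
  have h1 : C7 *ᵥ (A7 *ᵥ x) = (2 : ℤ) • x := by rw [mulVec_mulVec, t1.1, smul_mulVec, one_mulVec]
  have h2 := h (A7 *ᵥ x) fun a ha => by rw [fst_eq (hZ ha), ← dotProduct_mulVec, h1, dotProduct_smul, hx a ha, smul_zero]
  rw [h2, mulVec_zero] at h1
  exact (smul_eq_zero.1 h1.symm).resolve_left (by decide)

/-- isolated points of the alcove are vertices -/
theorem alc (h0 : ∀ i, 0 ≤ t i) (h1 : ∀ a ∈ Rc C7, t ⬝ᵥ a.2 ≤ n) (h2 : ∀ lam, Perp (Zt (Rc C7) n t) lam → lam = 0) :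
    ∃ i, ∀ a ∈ Rc C7, (n : ℤ) ∣ t ⬝ᵥ a.2 ↔ th i ∣ a.2 i := by
  obtain ⟨u, hu, h3⟩ := th_mem
  have h4 : t ⬝ᵥ th ≤ n := h3 ▸ h1 _ hu
  have h5 : Zt (Rc C7) n t ⊆ Rc C7 := fun _ h => h.1
  by_cases hi : ∃ i, t i ≠ 0
  swap
  · push Not at hi
    refine ⟨5, fun a _ => ?_⟩
    rw [show t = 0 from funext hi, zero_dotProduct, t1.2.2.2.1]
    exact iff_of_true (dvd_zero _) (one_dvd _)
  obtain ⟨i, hi⟩ := hi
  by_cases hj : ∃ j, j ≠ i ∧ t j ≠ 0
  · obtain ⟨j, hj, hj'⟩ := hj
    have h6 := congrFun (zero h5 h2 (x := Pi.single i (th j) - Pi.single j (th i)) fun a ha => by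
      obtain ⟨ε, -, h6⟩ := key h0 h4 ha
      rw [dotProduct_sub, dotProduct_single, dotProduct_single, h6 i hi, h6 j hj']
      ring) i
    rw [Pi.sub_apply, Pi.single_eq_same, Pi.single_eq_of_ne hj.symm, sub_zero] at h6
    exact absurd h6 (t1.2.2.1 j).1.ne'
  push Not at hj
  have h6 : ∀ β, t ⬝ᵥ β = t i * β i := fun β =>
    Finset.sum_eq_single i (fun j _ h => by rw [hj j h, zero_mul]) fun h => absurd (Finset.mem_univ i) h
  by_cases h7 : t ⬝ᵥ th = n
  · refine ⟨i, fun a _ => ?_⟩
    rw [← h7, h6, h6]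
    exact mul_dvd_mul_iff_left hi
  · have h8 := congrFun (zero h5 h2 (x := Pi.single i 1) fun a ha => by
      obtain ⟨ε, h8, h9⟩ := key h0 h4 ha
      rw [dotProduct_single, h9 i hi, h8.resolve_right h7, zero_mul, zero_mul]) i
    rw [Pi.single_eq_same] at h8
    exact absurd h8 one_ne_zero

/-- a reflection -/
theorem tr_rf (ha : a ∈ Rc C7) : Cu.Tr (rfm a) (Zt (Rc C7) n (t ᵥ* rfm a)) (Zt (Rc C7) n t) := by
  obtain ⟨m, C', d', P', -, T⟩ := boxBase boxRs C7 _ n t car
  have h := RsP.rfm_sq (rs.two a ha)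
  have hn := rs.nm _ (RsP.r_mem car ha)
  refine ⟨fun v hv => by rw [← one_mulVec v, ← h, ← mulVec_mulVec, hv, mulVec_zero], fun b hb => ?_, fun b hb => ?_, T.ext, T.nm⟩
  · obtain ⟨c, h1, h2, h3⟩ := hn b hb.1
    exact ⟨c, ⟨h1, by rw [← h2, dotProduct_mulVec]; exact hb.2⟩, h2, h3⟩
  · obtain ⟨c, h1, h2, h3⟩ := hn b hb.1
    have h4 : rfm a *ᵥ c.2 = b.2 := by rw [← h2, mulVec_mulVec, h, one_mulVec]
    exact ⟨c, ⟨h1, by rw [← dotProduct_mulVec, h4]; exact hb.2⟩, h4, by rw [← h3, vecMul_vecMul, h, vecMul_one]⟩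

end Typ

open Typ in
/-- **[Typ]** -/
theorem boxTyp : BoxTyp := fun n t hn => by
  refine E6.alc_ind (P := fun t => (∀ lam, Perp (Zt (Rc C7) n t) lam → lam = 0) →
    ∃ (C : Mat (Fin 7)) (d : Fin 7 → ℤ) (P : Mat (Fin 7)), Car C d ∧ Cu.Tr P (Rc C) (Zt (Rc C7) n t) ∧
      (C = C7 ∨ C = cm 7 cA ∨ C = cm 7 c52 ∨ Is1 C)) car hn (fun t a ha h h0 => ?_) (fun t a _ h => ?_)
    (fun t h1 h2 h3 => (alc h1 h2 h3).elim node) t
  · have T := tr_rf (n := n) (t := t) ha
    obtain ⟨C, d, P, h1, h2, h3⟩ := h fun lam hl => T.inj _ (h0 _ fun b hb => by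
      obtain ⟨c, hc, -, h4⟩ := T.dn b hb
      rw [dotProduct_mulVec, h4, hl c hc])
    exact ⟨C, d, _, h1, h2.comp T, h3⟩
  · have e : Zt (Rc C7) n (t - (n : ℤ) • a.1) = Zt (Rc C7) n t := Set.ext fun b => and_congr_right fun _ => by
      rw [sub_dotProduct, smul_dotProduct, smul_eq_mul]
      exact dvd_sub_left (dvd_mul_right _ _)
    exact e ▸ h

end Cfsg.Agent.OM.On.F7
end

-- part: OM/On/F7/Fin
section
/-!
# OM/On/F7 : the poles (helper3)
-/

set_option autoImplicit false
set_option linter.unusedSectionVars false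

namespace Cfsg.Agent.OM.On.F7

open Matrix Polynomial
open Cfsg.Agent.OM.Cas.Eig (cp cp_eval cp_aeval cp_sym exists_form)
open Cfsg.Agent.LV.One (Sm)

namespace FinA

theorem form {R : Type} [Fintype R] [DecidableEq R] {A : Matrix R R ℤ} {n : ℕ} (hn : 0 < n) (h : A ^ n = 1) :
    (∃ S : Matrix R R ℤ, S.det ≠ 0 ∧ Aᵀ * S * A = S) ∧ A.det * A.det = 1 := by
  obtain ⟨n, rfl⟩ := Nat.exists_eq_succ_of_ne_zero hn.ne'
  let u : (Matrix R R ℤ)ˣ := ⟨A, A ^ n, (pow_succ' A n).symm.trans h, (pow_succ A n).symm.trans h⟩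
  have h1 : IsOfFinOrder u := isOfFinOrder_iff_pow_eq_one.2 ⟨n + 1, hn, Units.ext (by rw [Units.val_pow_eq_pow_val]; exact h)⟩
  have := h1.finite_zpowers.to_subtype
  have := Fintype.ofFinite (Subgroup.zpowers u)
  obtain ⟨S, h2, h3⟩ := exists_form ((Units.coeHom _).comp (Subgroup.zpowers u).subtype)
  refine ⟨⟨S, h2, h3 ⟨u, Subgroup.mem_zpowers u⟩⟩, ?_⟩
  have h4 : A.det * (A ^ n).det = 1 := by rw [← det_mul, ← pow_succ', h, det_one]
  rcases Int.eq_one_or_neg_one_of_mul_eq_one h4 with h5 | h5 <;> rw [h5] <;> rfl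

theorem det_sgn {R : Type} [Fintype R] [DecidableEq R] (hR : Fintype.card R = 7) {A : Matrix R R ℤ} {n : ℕ} (hn : 0 < n) (h : A ^ n = 1) {c : ℤ} (hc : c = 1 ∨ c = -1)
    (h1 : (cp A).eval c ≠ 0) : A.det = -c := by
  obtain ⟨⟨S, h2, h3⟩, h4⟩ := form hn h
  have h5 : (c : ℚ) ≠ 0 := by rcases hc with rfl | rfl <;> norm_num
  have h6 := cp_sym h3 h2 h4 h5
  have h7 : (c : ℚ)⁻¹ = c := by rcases hc with rfl | rfl <;> norm_num
  have h8 : aeval (c : ℚ) (cp A) = (((cp A).eval c : ℤ) : ℚ) := by
    rw [← coe_aeval_eq_eval]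
    exact aeval_algebraMap_apply ℚ c (cp A)
  rw [h7, h8, hR] at h6
  have h9 := mul_right_cancel₀ (Int.cast_ne_zero.2 h1) h6
  have h10 : c ^ 7 = (-1) ^ 7 * A.det := by exact_mod_cast h9
  rcases hc with rfl | rfl <;> omega

theorem cp_eq {R : Type} [Fintype R] [DecidableEq R] {A B : Matrix R R ℤ} (h : A * B = 1) : cp A = C A.det * B.charpoly := by
  have h1 : (X : ℤ[X]) • A.map C - 1 = A.map C * B.charmatrix := by
    rw [charmatrix, mul_sub, RingHom.mapMatrix_apply, ← Matrix.map_mul, h, Matrix.map_one _ C_0 C_1, scalar_apply,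
      ← smul_eq_mul_diagonal]
  rw [cp, h1, det_mul, charpoly, RingHom.map_det]
  rfl

theorem unip {R : Type} [Fintype R] [DecidableEq R] {N : Matrix R R ℤ} {n k : ℕ} (hn : 0 < n) (h : (N + 1) ^ n = 1)
    (hk : N ^ k = 0) : N = 0 := by
  obtain ⟨g, hg⟩ : (X : ℤ[X]) ^ 2 ∣ (X + 1) ^ n - 1 - C (n : ℤ) * X := by
    clear h hn
    induction n with
    | zero => simp only [_root_.pow_zero, _root_.sub_self, _root_.CharP.cast_eq_zero, _root_.eq_intCast, _root_.Int.cast_zero, _root_.MulZeroClass.zero_mul, _root_.dvd_zero]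
    | succ n ih =>
      obtain ⟨g, hg⟩ := ih
      refine ⟨g * (X + 1) + C (n : ℤ), ?_⟩
      rw [Nat.cast_succ, C_add, C_1, pow_succ]
      linear_combination (X + 1) * hg
  have h1 : ∀ j : ℕ, ∃ q r : ℤ[X], C (n : ℤ) ^ j * X = X ^ (j + 1) * q + ((X + 1) ^ n - 1) * r := fun j => by
    induction j with
    | zero => exact ⟨1, 0, by simp⟩
    | succ j ih =>
      obtain ⟨q, r, hq⟩ := ih
      refine ⟨-g * q, X ^ j * q + C (n : ℤ) * r, ?_⟩
      linear_combination C (n : ℤ) * hq - X ^ j * q * hg
  obtain ⟨q, r, hq⟩ := h1 k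
  have h2 := congrArg (aeval N) hq
  rw [map_add, map_mul, map_mul, map_mul, map_sub, map_pow, map_pow, map_pow, map_add, aeval_X, map_one, h, sub_self, zero_mul,
    add_zero, pow_succ, hk, zero_mul, zero_mul, aeval_C, ← map_pow, ← Algebra.smul_def] at h2
  exact (smul_eq_zero.1 h2).resolve_left (pow_ne_zero _ (by simpa using hn.ne'))

theorem cp_ord {R : Type} [Fintype R] [DecidableEq R] (hR : Fintype.card R = 7) {A : Matrix R R ℤ} {n : ℕ} (hn : 0 < n) (h : A ^ n = 1) {c : ℤ} (hc : c * c = 1) :
    ¬ (X - C c) ^ 8 ∣ cp A ∧ ((X - C c) ^ 7 ∣ cp A → A = c • 1) := by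
  obtain ⟨n, rfl⟩ := Nat.exists_eq_succ_of_ne_zero hn.ne'
  have h1 : A * A ^ n = 1 := (pow_succ' A n).symm.trans h
  have h2 : ∀ k, (X - C c) ^ k ∣ cp A → (X - C c) ^ k ∣ (A ^ n).charpoly := fun k hk => by
    have h3 := hk.mul_left (C A.det)
    rwa [cp_eq h1, ← mul_assoc, ← C_mul, (form hn h).2, C_1, one_mul] at h3
  have h3 : (A ^ n).charpoly.natDegree = 7 := by rw [charpoly_natDegree_eq_dim, hR]
  have h4 : ∀ k, ((X - C c) ^ k).natDegree = k := fun k => by
    rw [(monic_X_sub_C c).natDegree_pow, natDegree_X_sub_C, mul_one]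
  refine ⟨fun h5 => ?_, fun h5 => ?_⟩
  · have h6 := natDegree_le_of_dvd (h2 8 h5) (charpoly_monic _).ne_zero
    rw [h3, h4] at h6
    omega
  · have h6 := eq_of_monic_of_dvd_of_natDegree_le ((monic_X_sub_C c).pow 7) (charpoly_monic _) (h2 7 h5) (by rw [h3, h4])
    have h7 := aeval_self_charpoly (A ^ n)
    rw [h6, map_pow, map_sub, aeval_X, aeval_C, Algebra.algebraMap_eq_smul_one] at h7
    have h8 : c • A ^ n - 1 = c • (A ^ n - c • 1) := by rw [smul_sub, smul_smul, hc, one_smul]
    have h9 : c • A ^ n - 1 = 0 := unip (n := 2 * (n + 1)) (k := 7) (by omega) (by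
      rw [sub_add_cancel, _root_.smul_pow, pow_mul c, sq, hc, one_pow, one_smul, ← pow_mul, show n * (2 * (n + 1)) = (n + 1) * (2 * n) by ring,
        pow_mul, h, one_pow]) (by rw [h8, _root_.smul_pow, h7, smul_zero])
    have h10 := congrArg (A * ·) (sub_eq_zero.1 h9)
    simp only [mul_smul_comm, h1, mul_one] at h10
    exact h10.symm

theorem pole {W : Type} [Fintype W] (Q : W → ℤ[X]) (c : ℤ) (w₁ : W) (h0 : ∀ w, ¬ (X - C c) ^ 8 ∣ Q w)
    (h1 : (X - C c) ^ 7 ∣ Q w₁) (h2 : ∀ w, (X - C c) ^ 7 ∣ Q w → w = w₁) :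
    ∃ (E : ℕ) (κ : ℤ) (T : (W → ℤ) → ℤ[X]), κ ≠ 0 ∧ ∀ m, (X - C c) ^ 7 * Sm Q m = (X - C c) ^ E * T m ∧
      (T m).eval c = m w₁ * κ ∧ ((∀ w, m w ≠ 0 → (Q w).eval c ≠ 0) → (X - C c) ^ 2 ∣ T m) := by
  classical
  have h3 : ∀ w, ∃ (e : ℕ) (r : ℤ[X]), Q w = (X - C c) ^ e * r ∧ r.eval c ≠ 0 := fun w => by
    obtain ⟨r, h4, h5⟩ := exists_eq_pow_rootMultiplicity_mul_and_not_dvd (Q w) (fun h => h0 w (h ▸ dvd_zero _)) c
    exact ⟨_, r, h4, fun h => h5 (dvd_iff_isRoot.2 h)⟩
  choose e r h4 h5 using h3
  have h6 : ∀ w k, k ≤ e w → (X - C c) ^ k ∣ Q w := fun w k hk => h4 w ▸ (pow_dvd_pow _ hk).mul_right _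
  have h7 : ∀ w, e w ≤ 7 := fun w => not_lt.1 fun h => h0 w (h6 w 8 h)
  have h8 : e w₁ = 7 := le_antisymm (h7 _) (not_lt.1 fun h => by
    obtain ⟨d, hd⟩ := Nat.exists_eq_add_of_lt h
    rw [h4, hd, add_assoc, pow_add, mul_dvd_mul_iff_left (pow_ne_zero _ (X_sub_C_ne_zero c))] at h1
    exact h5 w₁ (dvd_iff_isRoot.1 ((dvd_pow_self _ (Nat.succ_ne_zero d)).trans h1)))
  refine ⟨∑ v, e v, ∏ v ∈ Finset.univ.erase w₁, (r v).eval c,
    fun m => ∑ w, C (m w) * ((X - C c) ^ (7 - e w) * ∏ v ∈ Finset.univ.erase w, r v),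
    Finset.prod_ne_zero_iff.2 fun v _ => h5 v, fun m => ⟨?_, ?_, fun h => ?_⟩⟩
  · rw [Sm, Finset.mul_sum, Finset.mul_sum]
    refine Finset.sum_congr rfl fun w _ => ?_
    have h9 : (∏ v ∈ Finset.univ.erase w, Q v) = (X - C c) ^ (∑ v ∈ Finset.univ.erase w, e v) * ∏ v ∈ Finset.univ.erase w, r v := by
      rw [← Finset.prod_pow_eq_pow_sum, ← Finset.prod_mul_distrib]
      exact Finset.prod_congr rfl fun v _ => h4 v
    have h10 : (X - C c) ^ 7 = (X - C c) ^ e w * (X - C c) ^ (7 - e w) := by
      rw [← pow_add, Nat.add_sub_cancel' (h7 w)]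
    have h11 : (X - C c) ^ ∑ v, e v = (X - C c) ^ e w * (X - C c) ^ ∑ v ∈ Finset.univ.erase w, e v := by
      rw [← pow_add, Finset.add_sum_erase _ _ (Finset.mem_univ w)]
    rw [h10, h11]
    convert_to _ * (_ * ∏ v ∈ Finset.univ.erase w, Q v) = _
    rw [h9]
    ring
  · rw [eval_finsetSum, Finset.sum_eq_single w₁ (fun w _ hw => ?_) fun h => (h (Finset.mem_univ _)).elim]
    · rw [h8, eval_mul, eval_mul, eval_C, eval_prod, Nat.sub_self, pow_zero, eval_one, one_mul]
    · have h9 : 7 - e w ≠ 0 := fun h => hw (h2 w (h6 w 7 (by omega)))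
      rw [eval_mul, eval_mul, eval_pow, eval_sub, eval_X, eval_C, eval_C, sub_self, zero_pow h9, zero_mul, mul_zero]
  · refine Finset.dvd_sum fun w _ => ?_
    by_cases hw : m w = 0
    · rw [hw, C_0, zero_mul]
      exact dvd_zero _
    have h9 : e w = 0 := by_contra fun h9 =>
      h w hw (dvd_iff_isRoot.1 ((pow_one (X - C c)).symm.dvd.trans (h6 w 1 (by omega))))
    exact ((pow_dvd_pow _ (by omega)).mul_right _).mul_left _

theorem Sm_lin {W : Type} [Fintype W] (Q : W → ℤ[X]) (x y : ℤ) (m₁ m₂ m : W → ℤ) (h : ∀ w, m w = x * m₁ w + y * m₂ w) :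
    Sm Q m = C x * Sm Q m₁ + C y * Sm Q m₂ := by
  rw [Sm, Sm, Sm, Finset.mul_sum, Finset.mul_sum, ← Finset.sum_add_distrib]
  refine Finset.sum_congr rfl fun w _ => ?_
  rw [h, C_add, C_mul, C_mul]
  ring

theorem Sm_tr {W : Type} [Fintype W] {P Q : W → ℤ[X]} {L P₀ : ℤ[X]} (h : ∀ w, L * P w = P₀ * Q w) (m : W → ℤ) :
    L ^ (Fintype.card W - 1) * Sm P m = P₀ ^ (Fintype.card W - 1) * Sm Q m := by
  classical
  rw [Sm, Sm, Finset.mul_sum, Finset.mul_sum]
  refine Finset.sum_congr rfl fun w _ => ?_
  have h1 : (Finset.univ.erase w).card = Fintype.card W - 1 := by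
    rw [Finset.card_erase_of_mem (Finset.mem_univ _), Finset.card_univ]
  have h2 := Finset.prod_congr (s₁ := Finset.univ.erase w) rfl fun v _ => h v
  rw [Finset.prod_mul_distrib, Finset.prod_mul_distrib, Finset.prod_const, Finset.prod_const, h1] at h2
  rw [mul_left_comm, mul_left_comm (P₀ ^ _)]
  congr 1

theorem two {ε : ℤ} {a b : ℕ} {T₁ T₂ : ℤ[X]} (h1 : T₁.eval 1 ≠ 0) (h2 : (X - C 1) ^ 2 ∣ T₂)
    (h : (C ε * X ^ a - X ^ b) * T₁ = (C ε * X ^ a + X ^ b) * T₂) : T₂ = 0 := by
  obtain ⟨H, rfl⟩ := h2
  have h3 := congrArg (eval 1) h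
  have h4 := congrArg (fun q => eval 1 (derivative q)) h
  simp only [eval_mul, eval_sub, eval_add, eval_pow, eval_X, eval_C, one_pow, mul_one, sub_self, derivative_mul, derivative_sub,
    derivative_add, derivative_C, derivative_pow, derivative_X, zero_mul, zero_add, eval_zero] at h3 h4
  have h5 : ε = 1 := by
    have := mul_right_cancel₀ h1 (h3.trans (by ring : _ = 0 * T₁.eval 1))
    omega
  subst h5
  have h6 : a = b := by
    have := mul_right_cancel₀ h1 (show ((a : ℤ) - b) * T₁.eval 1 = 0 * T₁.eval 1 by linear_combination h4)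
    omega
  subst h6
  rw [C_1, one_mul, sub_self, zero_mul, ← two_mul] at h
  exact (mul_eq_zero.1 h.symm).resolve_left (mul_ne_zero two_ne_zero (pow_ne_zero _ X_ne_zero))

theorem fin {R : Type} [Fintype R] [DecidableEq R] (hR : Fintype.card R = 7) {W : Type} [Fintype W] (U : W → Matrix R R ℤ)
    (P : W → ℤ[X]) (P₀ : ℤ[X]) (σ m : W → ℤ) (s : ℤ) (w₁ w₀ : W) (a b : ℕ) (hU : Function.Injective U)
    (hf : ∀ w, ∃ n, 0 < n ∧ U w ^ n = 1) (h1 : U w₁ = 1) (h0 : U w₀ = -1) (hP₀ : P₀ ≠ 0)
    (hP : ∀ w, (X - 1) ^ 7 * P w = P₀ * cp (U w)) (hσ : ∀ w, σ w = s * (U w).det) (hm1 : m w₁ ≠ 0) (hm0 : m w₀ ≠ 0)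
    (hm : ∀ w, m w ≠ 0 → (U w - 1).det ≠ 0 ∨ (U w + 1).det ≠ 0)
    (h : ∀ t : ℤ, (t ^ a * (Sm P fun w => σ w * m w).eval t) ^ 2 = (t ^ b * (Sm P m).eval t) ^ 2) : False := by
  classical
  have hpole : ∀ (c : ℤ) (u : W), c * c = 1 → U u = c • 1 → _ := fun c u hc hu =>
    pole (fun w => cp (U w)) c u (fun w => (hf w).elim fun n hn => (cp_ord hR hn.1 hn.2 hc).1) (by
      have h2 : U u * U u = 1 := by rw [hu, smul_mul_smul_comm, hc, one_smul, one_mul]
      refine Dvd.dvd.trans ?_ (cp_eq h2).symm.dvd
      refine Dvd.dvd.mul_left (Eq.dvd ?_) _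
      rw [hu, smul_one_eq_diagonal, charpoly_diagonal, Finset.prod_const, Finset.card_univ, hR])
      fun w hw => hU ((hf w).elim fun n hn => ((cp_ord hR hn.1 hn.2 hc).2 hw).trans hu.symm)
  obtain ⟨E, κ, T, hκ, hT⟩ := hpole 1 w₁ rfl (by rw [h1, one_smul])
  obtain ⟨E', κ', T', hκ', hT'⟩ := hpole (-1) w₀ rfl (by rw [h0, neg_smul, one_smul])
  let m₁ : W → ℤ := fun w => if (U w).det = 1 then m w else 0
  let m₂ : W → ℤ := fun w => if (U w).det = 1 then 0 else m w
  have h2 := Sm_lin (fun w => cp (U w)) 1 1 m₁ m₂ m fun w => by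
    simp only [m₁, m₂]
    split_ifs <;> ring
  have h3 := Sm_lin (fun w => cp (U w)) s (-s) m₁ m₂ (fun w => σ w * m w) fun w => by
    simp only [m₁, m₂, hσ]
    split_ifs with hw
    · rw [hw]
      ring
    · obtain ⟨n, hn, hn'⟩ := hf w
      rw [(Int.eq_one_or_neg_one_of_mul_eq_one (form hn hn').2).resolve_left hw]
      ring
  have h4 : (X ^ a * Sm P fun w => σ w * m w) ^ 2 = (X ^ b * Sm P m) ^ 2 := Polynomial.funext fun t => by
    simpa only [eval_pow, eval_mul, eval_X] using h t
  have h5 : (X ^ a * Sm (fun w => cp (U w)) fun w => σ w * m w) ^ 2 = (X ^ b * Sm (fun w => cp (U w)) m) ^ 2 := by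
    refine mul_left_cancel₀ (pow_ne_zero 2 (pow_ne_zero (Fintype.card W - 1) hP₀)) ?_
    rw [← mul_pow, ← mul_pow, mul_left_comm, mul_left_comm _ (X ^ b), ← Sm_tr hP, ← Sm_tr hP]
    linear_combination (((X - 1) ^ 7) ^ (Fintype.card W - 1)) ^ 2 * h4
  obtain ⟨ε, hε⟩ : ∃ ε : ℤ, (C ε * X ^ a - X ^ b) * Sm (fun w => cp (U w)) m₁ =
      (C ε * X ^ a + X ^ b) * Sm (fun w => cp (U w)) m₂ := by
    rw [h2, h3, C_1, C_neg] at h5
    rcases sq_eq_sq_iff_eq_or_eq_neg.1 h5 with h6 | h6
    · exact ⟨s, by linear_combination h6⟩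
    · exact ⟨-s, by rw [C_neg]; linear_combination -h6⟩
  have h6 : T m₂ = 0 := by
    refine two (ε := ε) (a := a) (b := b) (T₁ := T m₁) ?_ ((hT m₂).2.2 fun w hw => ?_)
      (mul_left_cancel₀ (pow_ne_zero E (X_sub_C_ne_zero (1 : ℤ))) ?_)
    · rw [(hT m₁).2.1]
      refine mul_ne_zero ?_ hκ
      simpa only [m₁, h1, det_one, if_true] using hm1
    · have h7 : (U w).det ≠ 1 := fun h7 => hw (if_pos h7)
      obtain ⟨n, hn, hn'⟩ := hf w
      rcases hm w (fun h8 => hw ((if_neg h7).trans h8)) with h8 | h8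
      · rwa [cp_eval, one_smul]
      · refine (h7 (det_sgn hR hn hn' (Or.inr rfl) ?_)).elim
        rw [cp_eval, neg_smul, one_smul, ← neg_add', det_neg]
        exact mul_ne_zero (pow_ne_zero _ (by norm_num)) h8
    · rw [mul_left_comm, mul_left_comm _ (_ + _), ← (hT m₁).1, ← (hT m₂).1]
      linear_combination (X - C 1) ^ 7 * hε
  have h7 := (hT m₂).1
  rw [h6, mul_zero] at h7
  have h8 := (hT' m₂).1
  rw [(mul_eq_zero.1 h7).resolve_left (pow_ne_zero _ (X_sub_C_ne_zero _)), mul_zero] at h8
  have h9 := (hT' m₂).2.1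
  rw [(mul_eq_zero.1 h8.symm).resolve_left (pow_ne_zero _ (X_sub_C_ne_zero _)), eval_zero] at h9
  refine mul_ne_zero ?_ hκ' h9.symm
  have h10 : (U w₀).det ≠ 1 := by
    rw [h0, det_neg, det_one, hR]
    norm_num
  exact fun h11 => hm0 ((if_neg h10).symm.trans h11)

end FinA

theorem boxFin : BoxFin := fun U P P₀ σ m s w₁ w₀ a b hU hf h1 h0 hP₀ hP _ hσ hm1 hm0 hm h =>
  FinA.fin (Fintype.card_fin 7) U P P₀ σ m s w₁ w₀ a b hU hf h1 h0 hP₀ hP hσ hm1 hm0 hm h

end Cfsg.Agent.OM.On.F7
end

-- part: OM/On/F7/Eg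
section
/-!
# OM/On/F7 : the polynomial identity (helper49; the proof is the first half of `BZ.RT.eigT`)
-/

set_option autoImplicit false
set_option linter.unusedSectionVars false

namespace Cfsg.Agent.OM.On.F7

open Cfsg Cfsg.Agent.DL Cfsg.Agent.DL.PP Cfsg.Agent.DL.Uni Cfsg.Agent.DL.Asm Cfsg.Agent.Nodes.Reps Matrix
  Cfsg.Agent.Characters.Core Cfsg.Agent.KZ.Lie Polynomial Cfsg.Agent.LV.One Cfsg.Agent.OM.Cas Cfsg.Agent.OM.Cas.Eig
  Cfsg.Agent.BZ.RT.Et

variable {p : ℕ} [Fact p.Prime] {k : Type} [Field k] [CharP k p] [IsAlgClosed k] {Y : Type} [Group Y] {N : Type}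
  [Fintype N] [DecidableEq N] {ρ : Y →* GL N k} {F : MulAut Y} {G : Subgroup Y} (D : Datum p ρ F G) [Fintype ↥(GF F G)]

/-- **[Eg]** -/
theorem boxEg : BoxEg D := by
  intro e B h _ f χ hχ
  have hp : p.Prime := Fact.out
  have hq := h.qs
  have he := h.pos
  have hp' : (0 : ℤ) < p := Nat.cast_pos.2 hp.pos
  choose m hm using tot_int f (OddOrderCharacters.VChar.gen_of_irr hχ)
  obtain ⟨n, n0, hn⟩ := h.fin
  have hB := (form n0 hn).2
  have hσ : ∀ w, sgZ D w * sgZ D w = 1 := fun w => by rcases sgZ_sign D w with h | h <;> simp [h]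
  obtain ⟨P, hP⟩ : ∃ P : D.W → ℤ[X], ∀ w, P w = C B.det * _root_.Cfsg.Agent.OM.Cas.Eig.cp (D.Wm w * B) := ⟨_, fun _ => rfl⟩
  rw [← _root_.funext hP]
  have h1 : ∀ w, (P w).eval ((p : ℤ) ^ e) = sgZ D w * ordT D w := fun w => hP w ▸ _root_.Cfsg.Agent.BZ.RT.Et.cp_lev (pow_pos hp' e) h.mx hB w
  have h2 : ∀ (l : ℕ) (hl : 0 < l), l ≡ 1 [MOD n] → ∀ w : D.W, (P w).eval ((p : ℤ) ^ (e * l)) =
      sgZ (D.pow hl) w * ordT (D.pow hl) w := fun l hl h3 w => hP w ▸ _root_.Cfsg.Agent.BZ.RT.Et.cp_lev (D := D.pow hl) (pow_pos hp' _) (by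
    show D.Mx ^ l = _
    rw [h.mx, _root_.smul_pow, ← pow_mul, pow_eq_pow_of_modEq h3 hn, pow_one]) hB w
  have h4 := fun (x : ℚ) (hx : x ≠ 0) => sym_Sm P (sgZ D) hσ (r := Fintype.card D.R) (s := (-1) ^ Fintype.card D.R * B.det)
    (x := x) fun w => by
      obtain ⟨n', n1, n2⟩ := h.fin' w
      obtain ⟨⟨S, s1, s2⟩, s3⟩ := form n1 n2
      have s4 := cp_sym s2 s1 s3 hx
      rw [det_mul, show (D.Wm w).det = sgZ D w from rfl, Int.cast_mul] at s4
      rw [hP, map_mul, map_mul, aeval_C, aeval_C, mul_left_comm, s4]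
      ring
  obtain ⟨ω, -, k2, -⟩ := lev_om hq f h1 (ε := 1) (m := m) (fun w => by rw [hm, one_mul]) hχ one_ne_zero
  obtain ⟨a, b, k4⟩ := mono hp (mul_ne_zero (pow_ne_zero _ (mul_ne_zero (pow_ne_zero _ (neg_ne_zero.2 one_ne_zero))
    (Int.cast_ne_zero.2 (left_ne_zero_of_mul_eq_one hB)))) (Int.cast_ne_zero.2
    (Finset.prod_ne_zero_iff.2 fun w _ => left_ne_zero_of_mul_eq_one (hσ w)))) (fun e => k2 (by rw [e, eval_zero]))
    (fun x hx => h4 x hx m) (A := Sm P fun w => sgZ D w * m w)
    (fun x hx => by simpa only [← mul_assoc, hσ, one_mul] using h4 x hx fun w => sgZ D w * m w) fun K => by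
      obtain ⟨l, hl, _, f', χ', ε, h3, h8, h4, h5, h6⟩ := LV.Lift.exists_lift f hχ K n n0.ne'
      obtain ⟨ω', -, -, h7⟩ := lev_om (D := D.pow hl) (pow_QS hq hl) f' (h2 l hl h8) (ε := ε) (m := m)
        (fun w => by rw [finsum_congr (h6 w), ← mul_finsum, hm]) h4 (by rcases h5 with rfl | rfl <;> simp)
      exact ⟨e * l, _, h3.trans_le (Nat.le_mul_of_pos_left _ he), Dvd.intro_left _ (h7.trans (congrArg (· * _) (Nat.cast_pow _ _)))⟩
  exact ⟨m, a, b, hm, k4⟩

end Cfsg.Agent.OM.On.F7
end

-- part: OM/On/F7/Yt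
section
/-!
# OM/On/F7 : the total multiplicity at a central element (helper52)

`boxYt : BoxYt D`.
-/

set_option autoImplicit false
set_option linter.unusedSectionVars false

namespace Cfsg.Agent.OM.On.F7

open Cfsg Matrix Cfsg.Agent.DL Cfsg.Agent.DL.PP Cfsg.Agent.KZ.Lie Cfsg.Agent.HZ.L Cfsg.Agent.OM.Cu

variable {p : ℕ} [Fact p.Prime] {k : Type} [Field k] [CharP k p] [IsAlgClosed k] {Y : Type} [Group Y] {N : Type}
  [Fintype N] [DecidableEq N] {ρ : Y →* GL N k} {F : MulAut Y} {G : Subgroup Y} (D : Datum p ρ F G) [Fintype ↥(GF F G)]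

/-- **[Yt]** -/
theorem boxYt : BoxYt D := fun j B h P T f χ hL u c hc ε hε e => by
  have h1 : ∀ b ∈ rts D, (D.Wm u * B) *ᵥ b.2 = ε • b.2 := fun b hb => by
    obtain ⟨a, -, h1, -⟩ := T.dn b hb
    rw [← h1, mulVec_mulVec, e, smul_mulVec]
  have h2 : ∀ A ∈ WW (rts D), D.Wm u * B * A = A * (D.Wm u * B) := fun A hA => by
    induction hA using Submonoid.closure_induction with
    | one => rw [Matrix.mul_one, Matrix.one_mul]
    | mul x y _ _ hx hy => rw [← Matrix.mul_assoc, hx, Matrix.mul_assoc, hy, Matrix.mul_assoc]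
    | mem x hx =>
      obtain ⟨_, ⟨a, ha, rfl⟩, rfl⟩ := hx
      obtain ⟨b, hb, h3, h4⟩ := h.nm u _ (rt_mem ha)
      rw [mul_rfm h3 h4]
      rw [h1 _ (rt_mem ha)] at h3
      rcases hε with rfl | rfl
      · rw [T.ext b hb _ (rt_mem ha) (h3.symm.trans (one_smul _ _))]
      · rw [T.ext b hb _ (rt_mem ha.neg) (h3.symm.trans ((neg_one_smul _ _).trans (D.cor_neg ha).symm)), map_neg, D.cor_neg ha]
        exact congrArg (· * _) (rfm_neg (D.wt a, D.cor a))
  have h3 : Eig (rts D) (D.Wm u * B) ε := by
    obtain ⟨_, ⟨a, ha, rfl⟩, -⟩ := T.up (sp C7 0) ⟨1, one_mem _, 0, one_mulVec _, vecMul_one _⟩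
    refine ⟨fun i => D.cor a i, funext fun i => ?_, _, rt_mem ha, ?_⟩
    · have h4 := congrArg (Int.cast : ℤ → ℂ) (congrFun (h1 _ (rt_mem ha)) i)
      simpa only [mulVec, dotProduct, _root_.Matrix.map_apply, _root_.Pi.smul_apply, _root_.smul_eq_mul, _root_.Int.cast_sum, _root_.Int.cast_mul, _root_.Int.zsmul_eq_mul] using h4
    · have h4 := congrArg (Int.cast : ℤ → ℂ) ((D.pair_cor ha a).trans (Nodes.Coroot.cpr_self _ _ ha))
      push_cast at h4
      exact h4.trans_ne two_ne_zero
  have h4 : (Function.support fun c' => classInner χ (RW f u c')).Finite :=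
    Set.Finite.subset (finite_Fx D u) fun _ k => Has.fx k
  rw [Au.Yt, finsum_eq_sum _ h4, Finset.sum_eq_card_nsmul (b := classInner χ (RW f u c)) fun c' hc' => ?_, nsmul_eq_mul]
  · exact mul_ne_zero (Nat.cast_ne_zero.2 (Finset.card_ne_zero_of_mem (h4.mem_toFinset.2 hc))) hc
  · obtain ⟨v, hv⟩ := cj_iff.1 (hL u c u c' ε hc (h4.mem_toFinset.1 hc') h3 h3)
    rw [RW_conj f (h.tc_iff.2 (h2 _ (Wm_mem v))) hv]

end Cfsg.Agent.OM.On.F7
end

-- part: OM/On/F7/Al0
section
/-!
# OM/On/F7 : `BoxE7` from `BoxFac` (helper63)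
-/

set_option autoImplicit false

namespace Cfsg.Agent.OM.On.F7

open Cfsg Matrix Cfsg.Agent.DL Cfsg.Agent.DL.PP Cfsg.Agent.KZ.Lie Cfsg.Agent.HZ.L

variable {p : ℕ} [Fact p.Prime] {k : Type} [Field k] [CharP k p] [IsAlgClosed k] {Y : Type} [Group Y] {N : Type}
  [Fintype N] [DecidableEq N] {ρ : Y →* GL N k} {F : MulAut Y} {G : Subgroup Y} (D : Datum p ρ F G) [Fintype ↥(GF F G)]

theorem boxLab : BoxLab D := boxLab_of D boxT7 boxTA boxA1 boxUp boxTyp

theorem boxE7_fac (fac : BoxFac D) : BoxE7 D := boxE7_of D (boxLab D) (boxYt D) (boxEg D) fac boxFin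

end Cfsg.Agent.OM.On.F7
end

private theorem dce_923d9063e3f3 : _root_.True := by
  try have : _root_.True := by simp only [_root_.Cfsg.Agent.OM.Au.Yt.eq_1]
  exact _root_.True.intro
end

-- part: OM/On/E6/Dt
section
set_option linter.all false
open scoped Cfsg.Agent.FastGrp

/-!
# OM/On/E6: determinants and signs (helper66)
-/

set_option autoImplicit false
set_option maxRecDepth 100000

namespace Cfsg.Agent.OM.On.E6.Dt

open Cfsg Matrix Cfsg.Agent.HZ.L Cfsg.Agent.BZ.TA Cfsg.Agent.OM.Cu Polynomial

theorem fm_eq (β γ : Vec (Fin 6)) : fm C6 ![1, 1, 1, 1, 1, 1] β γ = β ⬝ᵥ (C6ᵀ *ᵥ γ) := by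
  rw [mulVec_transpose]
  simp [fm, dotProduct, Fin.sum_univ_six]

theorem orth {w : Mat (Fin 6)} (hw : w ∈ WW (Rc C6)) : wᵀ * C6ᵀ * w = C6ᵀ := Matrix.ext_iff_mulVec.2 fun γ =>
  dotProduct_eq_iff.1 fun β => by
    rw [dotProduct_comm, dotProduct_comm _ β, ← fm_eq, ← rs6.iso w (rs6.ww ▸ hw), fm_eq, ← mulVec_mulVec, ← mulVec_mulVec,
      dotProduct_mulVec, vecMul_transpose]

theorem detC : C6ᵀ.det ≠ 0 := fun e => by
  obtain ⟨v, h0, h1⟩ := exists_mulVec_eq_zero_iff.2 e
  refine h0 (rs6.top v fun a ha => ?_)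
  rw [fst_eq ha, ← dotProduct_mulVec, show C6 = C6ᵀ by decide +kernel, h1, dotProduct_zero]

theorem det_one {A : Mat (Fin 6)} (h : Aᵀ * C6ᵀ * A = C6ᵀ) (he : ¬ Eig (Rc C6) A 1) : A.det = 1 := by
  have h1 : (A - 1).det ≠ 0 := fun e => by
    obtain ⟨v, h0, h1⟩ := exists_mulVec_eq_zero_iff.2 e
    obtain ⟨y, h2, h3⟩ := eig_all (A := A) one_pos h0 (by rwa [cyclotomic_one, map_sub, aeval_X, map_one]) IsPrimitiveRoot.one
    exact he ⟨y, h3, by_contra fun e => h2 (rs6.topC y fun a ha => by_contra fun e' => e ⟨a, ha, e'⟩)⟩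
  have h2 : Aᵀ * C6ᵀ * (A - 1) = -(A - 1)ᵀ * C6ᵀ := by
    rw [mul_sub, h, transpose_sub, transpose_one, neg_sub, sub_mul, one_mul, mul_one]
  have h3 := congrArg det h2
  rw [det_mul, det_mul, det_mul, det_neg, det_transpose A, det_transpose (A - 1), Fintype.card_fin, Even.neg_one_pow (by decide),
    one_mul, mul_assoc, mul_comm (A - 1).det] at h3
  exact mul_right_cancel₀ (mul_ne_zero detC h1) (h3.trans (one_mul _).symm)

theorem det_rfm {a : Vec (Fin 6) × Vec (Fin 6)} (h : a.1 ⬝ᵥ a.2 = 2) : (rfm a).det = -1 := by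
  rw [rfm, sub_eq_add_neg, ← neg_vecMulVec, vecMulVec_eq Unit, det_one_add_replicateCol_mul_replicateRow, dotProduct_neg, h]
  rfl

theorem det6 : BoxDet := fun ε h A hA a ha => by
  have k : ∀ A ∈ WW (Rc C6), ¬ Eig (Rc C6) (ε • A) 1 → (ε • A).det = 1 := fun A hA => det_one (by
    rw [transpose_smul, smul_mul_assoc, smul_mul_smul_comm, h, one_smul, orth hA])
  by_contra e
  have h1 := k _ (mul_mem (rfm_mem ha) hA) fun e' => e (.inr e')
  rw [← mul_smul_comm, det_mul, det_rfm (rs6.two a ha), k A hA fun e' => e (.inl e')] at h1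
  exact absurd h1 (by decide)

theorem flip : pm (Equiv.swap 0 4 * Equiv.swap 1 3 : Equiv.Perm (Fin 6)) = (-1 : ℤ) • mt [35, 24, 14, 2] :=
  ext_of_mulVec_single fun i => by
    rw [smul_mulVec, ← rt_single, (mt_rt _ (i.2.trans (by decide))).2]
    revert i
    decide +kernel

theorem sg6 : BoxSg := fun B hB => by
  obtain ⟨w, hw, π, h, rfl⟩ := boxCh boxRs C6 _ B Eng.carE6 hB
  rcases Eng.autE6 π h with rfl | rfl
  · exact ⟨1, rfl, w, rs6.ww ▸ hw, by rw [pm_one, mul_one, one_smul]⟩
  · exact ⟨-1, rfl, _, mul_mem (rs6.ww ▸ hw) (mt_mem _), by rw [flip, mul_smul_comm]⟩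

end Cfsg.Agent.OM.On.E6.Dt
end
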